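import Cfsg.Agent.KZ.Spor.Small
import Cfsg.Agent.TAB.Sm2.Tits
import Cfsg.Agent.H867.TitsOut

/-!
# KZ: the Tits group (helper67)

There are at most seventeen orbits of the automorphism group on the elements, hence on the irreducible characters; the
characters of degrees `27` and `351` are fixed, so those of degrees `26`, `1300`, `2048` are moved.
(`cover_TN` and `ext_of` repeat parts of the proofs of `TAB.Sm2.Tits.core_TN` and `Core.ext` of helper3.)
-/

set_option autoImplicit false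
set_option maxRecDepth 100000

namespace Cfsg.Agent.KZ.Spor

open Cfsg Cfsg.Agent.TAB.Eng Cfsg.Agent.TAB.Use Cfsg.Agent.TAB.Co Cfsg.Agent.Characters Cfsg.Agent.Characters.Core
open Cfsg.Agent.Characters.Brauer Cfsg.Agent.SporadicB.RuOrder Cfsg.Agent.SporadicB.RuTits
open Cfsg.Agent.TAB.Sm2 Cfsg.Agent.TAB.Sm2.Tits Cfsg.Agent.H447.CTab
open scoped ComplexConjugate

universe u

section

open H700.PrinExt

variable {G : Type u} [Group G] [Finite G]

/-- an invariant colouring of the characters has at most as many colours as there are orbits on the group -/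
theorem colours_le {κ A : Type} [Fintype κ] [Fintype A] (r : κ → G) (hr : ∀ g, ∃ k, ∃ σ : MulAut G, σ (r k) = g)
    (c : IrrCharacter G → A) (hc : Function.Surjective c) (h : ∀ (σ : MulAut G) ψ, c (mapIrr σ ψ) = c ψ) :
    Fintype.card A ≤ Fintype.card κ := by
  have := finite_irr (G := G)
  have := Fintype.ofFinite (IrrCharacter G)
  let Φ : (A → ℂ) →ₗ[ℂ] (κ → ℂ) :=
    { toFun := fun x k => ∑ ψ : IrrCharacter G, x (c ψ) * (ψ : G → ℂ) (r k)
      map_add' := fun x y => funext fun k => by simp [add_mul, Finset.sum_add_distrib]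
      map_smul' := fun a x => funext fun k => by simp [Finset.mul_sum, mul_assoc] }
  have h1 : Function.Injective Φ := by
    rw [injective_iff_map_eq_zero]
    intro x hx
    have h2 : ∑ ψ : IrrCharacter G, x (c ψ) • (ψ : G → ℂ) = 0 := funext fun g => by
      obtain ⟨k, σ, rfl⟩ := hr g
      have h3 : ∑ ψ : IrrCharacter G, x (c ψ) * (ψ : G → ℂ) (r k) = 0 := congrFun hx k
      rw [Finset.sum_apply, Pi.zero_apply, ← h3]
      refine Fintype.sum_equiv ⟨mapIrr σ, mapIrr σ.symm, map_map σ, map_map σ.symm⟩ _ _ fun ψ => ?_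
      change _ = x (c (mapIrr σ ψ)) * _
      rw [h]
      rfl
    funext a
    obtain ⟨ψ, rfl⟩ := hc a
    exact Fintype.linearIndependent_iff.1 irr_linearIndependent _ h2 ψ
  simpa using LinearMap.finrank_le_finrank_of_injective h1

variable {n : ℕ} {d : ℕ → ℕ} {χ : ℕ → G → ℂ}

/-- the character `j` is fixed by all automorphisms -/
def Fx (χ : ℕ → G → ℂ) (j : ℕ) : Prop := ∀ (σ : MulAut G) (g : G), χ j (σ g) = χ j g

omit [Finite G] in
theorem eq_of_fx (hE : Enum G n d χ) {σ : MulAut G} {i j : ℕ} (hi : i < n) (hj : j < n) (h : ∀ g, χ j (σ g) = χ i g)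
    (hf : Fx χ i ∨ Fx χ j) : i = j := by
  refine hE.inj i hi j hj (funext fun g => ?_)
  rcases hf with hf | hf
  · rw [← hf σ.symm g, ← h, MulEquiv.apply_symm_apply]
  · rw [← h, hf]

omit [Finite G] in
theorem fx_of_others (hE : Enum G n d χ) {j : ℕ} (hj : j < n) (h : ∀ i < n, d i = d j → i = j ∨ Fx χ i) : Fx χ j :=
  fun σ g => by
    obtain ⟨i, hi, h1, h2⟩ := exists_image hE σ hj
    rw [h2, (h i hi h1).elim id fun h3 => eq_of_fx hE hi hj h2 (.inl h3)]

theorem colours_enum (hE : Enum G n d χ) {κ : Type} [Fintype κ] (r : κ → G)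
    (hr : ∀ g, ∃ k, ∃ σ : MulAut G, σ (r k) = g) {m : ℕ} (c : ℕ → Fin m) (hc : ∀ a, ∃ j < n, c j = a) (F : List ℕ)
    (hF : ∀ j ∈ F, Fx χ j) (h : ∀ i < n, ∀ j < n, d i = d j → c i = c j ∨ i ∈ F ∨ j ∈ F) : m ≤ Fintype.card κ := by
  choose f hf1 hf2 using hE.all
  refine (Fintype.card_fin m).symm.trans_le (colours_le r hr (fun ψ => c (f _ ψ.2)) (fun a => ?_) fun σ ψ => ?_)
  · obtain ⟨j, hj, rfl⟩ := hc a
    exact ⟨⟨χ j, hE.irr j hj⟩, congrArg c (hE.inj _ (hf1 _ _) _ hj (hf2 _ _).symm)⟩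
  · have h1 : ∀ g, χ (f _ ψ.2) (σ g) = χ (f _ (mapIrr σ ψ).2) g := fun g => by
      rw [← hf2, ← hf2]
      rfl
    have h2 := h1 1
    rw [map_one, hE.deg _ (hf1 _ _), hE.deg _ (hf1 _ _), Nat.cast_inj] at h2
    rcases h _ (hf1 _ _) _ (hf1 _ _) h2.symm with h3 | h3
    · exact h3
    · exact congrArg c (eq_of_fx hE (hf1 _ _) (hf1 _ _) h1 (h3.imp (hF _) (hF _)))

/-- the exterior square -/
theorem ext_of {T : TD G dat} (hm : T.Mass) {χ : G → ℂ} (h1 : IsIrrCharacter G χ) (h2 : PM T χ ca cb) :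
    IsIrrCharacter G (-fun g => (χ (g ^ 2) - χ g ^ 2) / (2 : ℕ)) ∧
      PM T (-fun g => (χ (g ^ 2) - χ g ^ 2) / (2 : ℕ)) la cb := by
  have := Fintype.ofFinite G
  have h3 : PM T (-fun g => (χ (g ^ 2) - χ g ^ 2) / (2 : ℕ)) la cb := fun g => by
    have h4 : ∀ t < dat.n, 2 * nth la t = nth ca t * nth ca t - nth cb t * nth cb t - nth ca (dat.pwf t 2) ∧
      ((nth cb (dat.pwf t 2) = 0 ∧ nth ca t * nth cb t = -nth cb t) ∨
        (nth ca t * nth cb t = 0 ∧ nth cb (dat.pwf t 2) = 2 * nth cb t)) := by decide +kernel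
    obtain ⟨h5, h6⟩ := h4 _ (T.lt g)
    have h7 := h2 g
    have h8 := h2 (g ^ 2)
    rw [T.pow] at h8
    have h9 := congrArg (Int.cast : ℤ → ℂ) h5
    rw [Pi.neg_apply]
    rcases h6 with ⟨a1, a2⟩ | ⟨a1, a2⟩ <;> have a3 := congrArg (Int.cast : ℤ → ℂ) a1 <;>
      have a4 := congrArg (Int.cast : ℤ → ℂ) a2 <;> push_cast at h9 a3 a4 ⊢
    · rw [a3, zero_mul, add_zero, sub_zero, or_self] at h8
      rcases h7 with h7 | h7 <;> [right; left] <;> rw [h7, h8]
      · linear_combination (-1 / 2) * h9 + Complex.I * a4 + (nth cb (T.ty g) : ℂ) ^ 2 / 2 * Complex.I_sq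
      · linear_combination (-1 / 2) * h9 - Complex.I * a4 + (nth cb (T.ty g) : ℂ) ^ 2 / 2 * Complex.I_sq
    · rcases h8 with h8 | h8 <;> [right; left] <;> rcases h7 with h7 | h7 <;> rw [h7, h8, a4]
      · linear_combination (-1 / 2) * h9 + Complex.I * a3 + (nth cb (T.ty g) : ℂ) ^ 2 / 2 * Complex.I_sq
      · linear_combination (-1 / 2) * h9 - Complex.I * a3 + (nth cb (T.ty g) : ℂ) ^ 2 / 2 * Complex.I_sq
      · linear_combination (-1 / 2) * h9 + Complex.I * a3 + (nth cb (T.ty g) : ℂ) ^ 2 / 2 * Complex.I_sq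
      · linear_combination (-1 / 2) * h9 - Complex.I * a3 + (nth cb (T.ty g) : ℂ) ^ 2 / 2 * Complex.I_sq
  have h4 := gen_delta (isGeneralizedCharacter_of_isCharacter (isIrr_isCharacter h1)) Nat.prime_two
  generalize (fun g => (χ (g ^ 2) - χ g ^ 2) / ((2 : ℕ) : ℂ)) = ψ at h3 h4
  have h5 : classInner ψ ψ = 1 := by
    have h6 : ∀ g, ψ g * conj (ψ g) = ((nth la (T.ty g) * nth la (T.ty g) + nth cb (T.ty g) * nth cb (T.ty g) : ℤ) : ℂ) :=
      fun g => by
        rcases h3 g with h6 | h6 <;> rw [Pi.neg_apply, neg_eq_iff_eq_neg] at h6 <;> rw [h6] <;>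
          simp only [map_neg, map_add, map_sub, map_mul, map_intCast, Complex.conj_I] <;> push_cast <;>
          linear_combination (-(nth cb (T.ty g) : ℂ) ^ 2) * Complex.I_sq
    have h7 : ∑ t ∈ Finset.range dat.n, dat.cnt t • (nth la t * nth la t + nth cb t * nth cb t) = dat.N := by
      decide +kernel
    rw [classInner_def, Finset.sum_congr rfl fun g _ => h6 g, ← Int.cast_sum,
      sum_mass hm fun t => nth la t * nth la t + nth cb t * nth cb t, h7, ← hm.1, Int.cast_natCast,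
      inv_mul_cancel₀ card_ne_zero_complex]
  refine ⟨(isIrr_of_generalized h4 h5).resolve_left fun h6 => ?_, h3⟩
  obtain ⟨n, -, hn⟩ := isIrr_apply_one h6
  have h7 := h3.sum 1
  have h8 : ∀ t < dat.n, 1 = dat.ord t → nth la t = 351 := by decide +kernel
  rw [h8 _ (T.lt 1) (orderOf_one.symm.trans (T.ord 1)), Pi.neg_apply, hn, map_neg, Complex.conj_natCast] at h7
  have h9 : -(n : ℤ) + -n = 2 * 351 := by exact_mod_cast h7
  omega

end

theorem cover_TN (g : TN) : ∃ t < 15, HC t g := by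
  obtain ⟨-, ρ, hρ, hχ, hα⟩ := exists_rho
  have hv := Chi.vals hρ
  generalize trc ρ = χ at hχ hα hv
  have hc := isIrr_isCharacter hχ
  have hI : ∀ {x g : TN}, IsConj (x : H1) g → χ g = χ x := fun {x g} h => by
    have := normal_TN
    obtain ⟨c, hc⟩ := isConj_iff.1 h
    rw [← hα (MulAut.conjNormal c) x]
    exact congrArg χ (Subtype.ext (hc.symm.trans (MulAut.conjNormal_apply c x).symm))
  have hψ : IsGeneralizedCharacter TN (χ + fun g => conj (χ g)) :=
    isGeneralizedCharacter_of_isCharacter (isCharacter_add hc (isCharacter_conj hc))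
  have hψv : ∀ s < 17, (keyG hψ).P (wg (rW s)) (2 * Chi.re.getD s 0) := fun s hs => by
    change χ _ + conj (χ _) = _
    rw [hv s hs]
    simp only [map_add, map_mul, map_intCast, Complex.conj_I]
    push_cast
    ring
  have hty : ∀ t < 15, Ty (keyG hψ) dat (nth v₁) t (wg (rW t)) := fun t ht =>
    ty_of_vals (by decide +kernel) (hψv 0 (by norm_num)) ht (by rw [← wg_pwW, wg_eq (hO t ht)]; rfl) fun p hp => by
      obtain ⟨s, hs, h1, h2⟩ := hP t ht p hp
      rw [← wg_pwW, h1, ← h2]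
      exact hψv s hs
  have hcj : ∀ {t : ℕ} {x g : TN}, Ty (keyG hψ) dat (nth v₁) t x → IsConj (x : H1) g →
      Ty (keyG hψ) dat (nth v₁) t g := fun {t x g} hx h => by
    obtain ⟨c, hc⟩ := isConj_iff.1 h
    refine ⟨?_, fun p hp => ?_⟩
    · rw [← Subgroup.orderOf_coe, ← hc, orderOf_conj', Subgroup.orderOf_coe, hx.1]
    · have h1 : χ (g ^ p.1) = χ (x ^ p.1) :=
        hI (isConj_iff.2 ⟨c, by rw [Subgroup.coe_pow, Subgroup.coe_pow, ← hc, conj_pow]⟩)
      have h2 := hx.2 p hp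
      change χ _ + conj (χ _) = _ at h2 ⊢
      rw [h1, h2]
  have hH : ∀ t < 15, ∀ g, HC t g → Ty (keyG hψ) dat (nth v₁) t g := fun t ht g h =>
    h.elim (hcj (hty t ht)) fun h => hcj (ty_rc (hty t ht) (RC.of_inv (IsConj.refl _))) h.2
  have hinj : ∀ t (ht : t < 15), Function.Injective
      (fun g : {g : TN // HC t g} => (⟨g.1, hH t ht g.1 g.2⟩ : {g : TN // Ty (keyG hψ) dat (nth v₁) t g})) :=
    fun t ht a b hab => Subtype.ext (congrArg Subtype.val hab :)
  have hcnt : ∀ t < 15, dat.cnt t ≤ Nat.card {g : TN // HC t g} := fun t ht => by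
    have h1 : ∀ t < 15, md (rW t) = rW t ∧ if t = 9 ∨ t = 14 then dat.cnt t / 2 * cH.getD t 0 ≤ 35942400 ∧
      dat.cnt t ≤ 2 * (dat.cnt t / 2) ∧ Chi.im.getD t 0 ≠ 0 else dat.cnt t * cH.getD t 0 ≤ 35942400 := by
      decide +kernel
    obtain ⟨h2, h3⟩ := h1 t ht
    have h4 : Nat.card (Subgroup.centralizer ({((wg (rW t) : TN) : H1)} : Set H1)) ≤ cH.getD t 0 := by
      change Nat.card (Subgroup.centralizer ({wv (md (rW t))} : Set H1)) ≤ _
      rw [h2]
      exact cent_rW t ht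
    by_cases h5 : t = 9 ∨ t = 14
    · rw [if_pos h5, ← card_H1] at h3
      refine (h3.2.1.trans (Nat.mul_le_mul_left 2 (le_cls normal_TN _ h4 h3.1))).trans
        ((le_cls_two _ fun h6 => h3.2.2 ?_).trans (le_of_eq (Nat.card_congr (Equiv.subtypeEquivRight fun g => ?_))))
      · have h7 := congrArg Complex.im (hI h6)
        rw [isCharacter_apply_inv hc, hv t (by omega)] at h7
        simp only [Complex.conj_im, Complex.add_im, Complex.mul_im, Complex.intCast_re, Complex.intCast_im,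
          Complex.I_re, Complex.I_im, mul_one, mul_zero, zero_add, add_zero] at h7
        have h8 : -Chi.im.getD t 0 = Chi.im.getD t 0 := by exact_mod_cast h7
        omega
      · rw [HC, and_iff_right h5]
    · rw [if_neg h5, ← card_H1] at h3
      exact (le_cls normal_TN _ h4 h3).trans (Nat.card_le_card_of_injective (fun g => ⟨g.1, Or.inl g.2⟩)
        fun a b hab => Subtype.ext (congrArg Subtype.val hab :))
  have hb : ∀ t < dat.n, TAB.Eng.Box (keyG hψ) dat (nth v₁) t := fun t ht =>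
    (hcnt t ht).trans (Nat.card_le_card_of_injective _ (hinj t ht))
  obtain ⟨h1, h2⟩ := cover_of_box (by decide +kernel) (by decide +kernel) card_TN hb
  obtain ⟨t, ht, hg⟩ := h1 g
  obtain ⟨a, ha⟩ := ((Nat.bijective_iff_injective_and_card _).2 ⟨hinj t ht,
    le_antisymm (Nat.card_le_card_of_injective _ (hinj t ht)) ((h2 t ht).le.trans (hcnt t ht))⟩).2 ⟨g, hg⟩
  have h3 : a.1 = g := congrArg Subtype.val ha
  have h4 := a.2
  rw [h3] at h4
  exact ⟨t, ht, h4⟩

/-- the representatives of the orbits -/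
noncomputable def repT (k : Fin 17) : TN :=
  if (k : ℕ) = 15 then (wg (rW 9))⁻¹ else if (k : ℕ) = 16 then (wg (rW 14))⁻¹ else wg (rW k)

theorem repT_cover (g : TN) : ∃ k, ∃ σ : MulAut TN, σ (repT k) = g := by
  have := normal_TN
  have key : ∀ {x : TN}, IsConj (x : H1) g → ∃ σ : MulAut TN, σ x = g := fun h => by
    obtain ⟨c, hc⟩ := isConj_iff.1 h
    exact ⟨MulAut.conjNormal c, Subtype.ext ((MulAut.conjNormal_apply c _).trans hc)⟩
  obtain ⟨t, ht, h | ⟨rfl | rfl, h⟩⟩ := cover_TN g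
  · refine ⟨⟨t, by omega⟩, ?_⟩
    rw [repT, if_neg (show ¬ t = 15 by omega), if_neg (show ¬ t = 16 by omega)]
    exact key h
  · exact ⟨15, key h⟩
  · exact ⟨16, key h⟩

set_option synthInstance.maxSize 4096 in
set_option synthInstance.maxHeartbeats 200000 in
theorem fx_TN (M : Ideal AlgInt) : fx M TN ≤ 3 := by
  obtain ⟨T, hT⟩ := core_TN
  obtain ⟨χ, hE, hR⟩ := hT.tab
  obtain ⟨-, ρ, -, hχ, hα⟩ := exists_rho
  have hd : trc ρ 1 = (27 : ℕ) := by simp [trc]
  generalize trc ρ = θ at hχ hα hd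
  obtain ⟨ψ, h1, h2⟩ := hT.chi
  have h3 := pair_eq hE hR (j := 10) (k := 11) (w := rB.getD 1 []) (by decide +kernel) (by decide +kernel)
    (by decide +kernel) h1 h2 (by decide +kernel)
  obtain ⟨a, ha, rfl⟩ := hE.all θ hχ
  rw [hE.deg a ha, Nat.cast_inj] at hd
  have h4 : a = 10 ∨ a = 11 := (by decide +kernel : ∀ a < (mkRows rA rB).n, (mkRows rA rB).d a = 27 →
    a = 10 ∨ a = 11) a ha hd
  have h5 : PM T (χ a) ca cb := by rcases h4 with rfl | rfl; exacts [h3.1, h3.2]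
  obtain ⟨h6, h7⟩ := ext_of hT.mass hχ h5
  have h8 : ∀ (σ : MulAut TN) (g : TN), (-fun g => (χ a (g ^ 2) - χ a g ^ 2) / (2 : ℕ)) (σ g) =
      (-fun g => (χ a (g ^ 2) - χ a g ^ 2) / (2 : ℕ)) g := fun σ g => by
    simp only [Pi.neg_apply, ← map_pow, hα]
  generalize (-fun g => (χ a (g ^ 2) - χ a g ^ 2) / ((2 : ℕ) : ℂ)) = lam at h6 h7 h8
  have h9 : lam 1 = (351 : ℕ) := by
    have h9 : ∀ t < dat.n, 1 = dat.ord t → nth la t = 351 ∧ nth cb t = 0 := by decide +kernel
    obtain ⟨h10, h11⟩ := h9 _ (T.lt 1) (orderOf_one.symm.trans (T.ord 1))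
    have h12 := h7 1
    rw [h10, h11] at h12
    simpa using h12
  obtain ⟨b, hb, h10⟩ := hE.all _ h6
  obtain ⟨c, hc, h11⟩ := hE.all _ (isIrr_conj h6)
  have h12 : b ≠ c := by
    rintro rfl
    obtain ⟨g, hg⟩ := hT.inh 14 (by decide)
    exact h7.ne (g := g) (by rw [hg]; decide) (σ := Complex.conjAe.toRingEquiv) Complex.conj_I
      (congrFun (h11.trans h10.symm) g)
  have h13 : (mkRows rA rB).d b = 351 := by
    rw [h10, hE.deg b hb] at h9
    exact_mod_cast h9
  have h14 : (mkRows rA rB).d c = 351 := by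
    have h14 := congrFun h11 1
    rw [h9, Complex.conj_natCast, hE.deg c hc] at h14
    exact_mod_cast h14.symm
  have h15 : Fx χ b := fun σ g => by rw [← h10, h8]
  have h16 : Fx χ c := fun σ g => by
    rw [← h11]
    exact congrArg conj (h8 σ g)
  refine (le_count hE _ (fun j => j = 0 ∨ j = 3 ∨ j = 5) fun j hj h17 => by_contra fun h18 => ?_).trans
    (by decide +kernel)
  have h19 := h17.1.2
  rw [hE.charDegree_eq hj] at h19
  have h20 : ∀ j < (mkRows rA rB).n, ¬ 3 ∣ (mkRows rA rB).d j → ¬ (j = 0 ∨ j = 3 ∨ j = 5) →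
      ∃ L ∈ ([[0, 1, 2, 3, 4, 5, 6, 7, 8, 9, 10, 11, 12, 13, 14, 14, 15, 15, 16, 16, 17, 17],
        [0, 1, 2, 3, 4, 5, 6, 7, 8, 8, 10, 11, 12, 13, 14, 14, 15, 15, 16, 9, 17, 17],
        [0, 1, 2, 3, 4, 5, 6, 7, 8, 8, 10, 11, 12, 13, 14, 14, 15, 15, 16, 16, 17, 9]] : List (List (Fin 18))),
      (∀ x, ∃ i < (mkRows rA rB).n, L.getD i 0 = x) ∧ ∀ a ∈ [10, 11], ∀ b ∈ [4, 12, 13], ∀ c ∈ [4, 12, 13], b ≠ c →
        ∀ i < (mkRows rA rB).n, ∀ k < (mkRows rA rB).n, (mkRows rA rB).d i = (mkRows rA rB).d k →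
          L.getD i 0 = L.getD k 0 ∨ i ∈ [j, a, b, c] ∨ k ∈ [j, a, b, c] := by decide +kernel
  have h21 : ∀ b < (mkRows rA rB).n, (mkRows rA rB).d b = 351 → b ∈ [4, 12, 13] := by decide +kernel
  obtain ⟨L, -, h22, h23⟩ := h20 j hj h19 h18
  have h24 := colours_enum hE repT repT_cover (fun i => L.getD i 0) h22 [j, a, b, c]
    (List.forall_mem_cons.2 ⟨h17.2, List.forall_mem_cons.2 ⟨hα, List.forall_mem_cons.2
      ⟨h15, List.forall_mem_singleton.2 h16⟩⟩⟩) (h23 a (by simpa using h4) b (h21 b hb h13) c (h21 c hc h14) h12)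
  simp at h24

theorem small_TN : Small TN := by
  have := TAB.Ru.finH
  have h0 : H1 ≤ H := inf_le_left
  have h1 : Function.Injective ((Subgroup.inclusion h0).comp TN.subtype) :=
    (Subgroup.inclusion_injective h0).comp TN.subtype_injective
  exact small_RuH.to_inj _ h1 (not_dvd_range_index _ h1 (e := 3) (by rw [card_TN]; decide) (by rw [card_H]; decide))

theorem good_Tits {S : Type u} [Group S] (h : Lie.IsoTits S) : Good S := by
  have := finite_of h
  obtain ⟨e⟩ := exists_iso h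
  obtain ⟨T, -, -, hT⟩ := tab_of h
  refine ⟨H867.TitsOut.card_out_le h, .inr (.inr fun M _ => ?_), .inl (small_TN.congr e.symm),
    .inr (one_of_tab hT 3 (by decide +kernel))⟩
  have h1 : k0 M S ≤ 9 := (k0_le_m3 (deg_of h)).trans (by decide +kernel)
  have h2 := (fx_congr e).trans_le (fx_TN M)
  omega

/-- **`Box.tits`** -/
theorem row_tits : Row fun S _ => Lie.IsoTits S := row_of_good fun _ _ _ h => good_Tits h

end Cfsg.Agent.KZ.Spor
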