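import Cfsg.Prelude.Def_KGroupFacts
import Cfsg.Agent.KZ.Tool.Crit
import Cfsg.Agent.H41.TI.Gen
import Cfsg.Agent.H627.BR.Over
import Cfsg.Agent.H611.CoverPrincipal
import Cfsg.Agent.H614.IndexTwo
import Cfsg.Agent.H545.PQ.RowTool
import Cfsg.Agent.H700.PrinExt
import Cfsg.Agent.TAB.Use.Main
import Cfsg.Agent.S4551
import Cfsg.Agent.S4588
import Cfsg.Agent.S4916
import Cfsg.Agent.S0902

/-!
# KZ: the rows of a simple group with at most two outer automorphism classes (helper67)

* `out S = |Out S|`, `fx M S` : the number of members fixed by all automorphisms;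
* `Big`, `Small`, `SmallC`, `CP` : properties of the Sylow `3`-subgroups;
* `Good S` : what is needed for a group, `row_of_good`, `row_of_iso`;
* `Good.of_big`, `Good.of_smallC` : the two standard ways; `cp_of_tab`, `smallC_of_tab` : from a table.
-/

set_option autoImplicit false

namespace Cfsg.Agent.KZ.Spor

open Cfsg Subgroup Cfsg.Agent.KZ.Tool Cfsg.Agent.TAB.Use Cfsg.Agent.TAB.Eng
open scoped Count

universe u v

/-- `|Out S|` -/
noncomputable def out (S : Type u) [Group S] : ℕ := (MulAut.conj : S →* MulAut S).range.index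

theorem out_eq (S : Type u) [Group S] : out S = Nat.card (Cfsg.Out S) := rfl

/-- the number of members fixed by all automorphisms -/
noncomputable def fx (M : Ideal AlgInt) (S : Type u) [Group S] : ℕ :=
  Nat.card {χ : IrrCharacter S // Mem M χ ∧ ∀ σ : MulAut S, Fixes σ χ}

/-- `|P : P'| ≥ 27` -/
def Big (S : Type u) [Group S] : Prop := ∀ P : Sylow 3 S, 27 ≤ nab P

/-- `|P : P'| ≤ 9` -/
def Small (S : Type u) [Group S] : Prop := ∀ P : Sylow 3 S, nab P ≤ 9

/-- a `3`-element whose centralizer has order not divisible by `27` -/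
def SmallC (S : Type u) [Group S] : Prop :=
  ∃ x : S, (∃ k : ℕ, orderOf x = 3 ^ k) ∧ ¬ 27 ∣ Nat.card (centralizer ({x} : Set S))

/-- the centralizer of a Sylow `3`-subgroup is a `3`-group -/
def CP (S : Type u) [Group S] : Prop :=
  ∀ P : Sylow 3 S, ∀ x ∈ centralizer ((P : Subgroup S) : Set S), ¬ 3 ∣ orderOf x → x = 1

/-- **What is needed for a group.** -/
structure Good (S : Type u) [Group S] : Prop where
  out_le : out S ≤ 2
  up : Big S ∨ SmallC S ∨ ∀ M, IsPModular 3 M → k0 M S ≤ 9 ∧ (out S = 2 → k0 M S + 3 * fx M S ≤ 19)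
  lo : Small S ∨ ∀ M, IsPModular 3 M → 10 ≤ k0 M S ∧ (out S = 2 → 19 ≤ k0 M S + 3 * fx M S)
  one : out S = 1 ∨ ∀ M, IsPModular 3 M → One M S

/-! ### the abelianization of the Sylow subgroups -/

theorem comm_index_congr {X : Type u} {Y : Type v} [Group X] [Group Y] (e : X ≃* Y) :
    (commutator X).index = (commutator Y).index :=
  Nat.card_congr e.abelianizationCongr.toEquiv

theorem nab_eq {S : Type u} [Group S] [Finite S] (P Q : Sylow 3 S) : nab P = nab Q :=
  haveI : Fact (Nat.Prime 3) := ⟨Nat.prime_three⟩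
  comm_index_congr (P.equiv Q)

theorem exists_nab {H : Type u} {G : Type v} [Group H] [Group G] [Finite G] (f : H →* G) (hf : Function.Injective f)
    (hi : ¬ 3 ∣ f.range.index) (Q : Sylow 3 H) : ∃ P : Sylow 3 G, (P : Subgroup G) = (Q : Subgroup H).map f ∧ nab P = nab Q := by
  have : Fact (Nat.Prime 3) := ⟨Nat.prime_three⟩
  have : Finite H := Finite.of_injective f hf
  have h1 : ¬ 3 ∣ ((Q : Subgroup H).map f).index := by
    rw [index_map_of_injective _ hf]
    intro h
    rcases (Nat.Prime.dvd_mul Nat.prime_three).1 h with h | h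
    · exact Q.not_dvd_index h
    · exact hi h
  exact ⟨(Q.2.map f).toSylow h1, rfl, (comm_index_congr (equivMapOfInjective _ f hf)).symm⟩

theorem nab_of_inj {H : Type u} {G : Type v} [Group H] [Group G] [Finite G] (f : H →* G) (hf : Function.Injective f)
    (hi : ¬ 3 ∣ f.range.index) (Q : Sylow 3 H) (P : Sylow 3 G) : nab P = nab Q := by
  obtain ⟨R, -, h⟩ := exists_nab f hf hi Q
  rw [← h, nab_eq P R]

theorem Big.of_one {S : Type u} [Group S] [Finite S] (P : Sylow 3 S) (h : 27 ≤ nab P) : Big S :=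
  fun Q => nab_eq P Q ▸ h

theorem Small.of_one {S : Type u} [Group S] [Finite S] (P : Sylow 3 S) (h : nab P ≤ 9) : Small S :=
  fun Q => nab_eq P Q ▸ h

/-- from a subgroup of index prime to `3` -/
theorem Big.of_inj {H : Type u} {G : Type v} [Group H] [Group G] [Finite G] (f : H →* G) (hf : Function.Injective f)
    (hi : ¬ 3 ∣ f.range.index) (h : Big H) : Big G := fun P => by
  obtain ⟨Q⟩ : Nonempty (Sylow 3 H) := inferInstance
  rw [nab_of_inj f hf hi Q P]
  exact h Q

theorem Small.of_inj {H : Type u} {G : Type v} [Group H] [Group G] [Finite G] (f : H →* G) (hf : Function.Injective f)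
    (hi : ¬ 3 ∣ f.range.index) (h : Small H) : Small G := fun P => by
  obtain ⟨Q⟩ : Nonempty (Sylow 3 H) := inferInstance
  rw [nab_of_inj f hf hi Q P]
  exact h Q

theorem Big.of_sub {G : Type u} [Group G] [Finite G] (H : Subgroup G) (hi : ¬ 3 ∣ H.index) (h : Big H) : Big G :=
  h.of_inj H.subtype H.subtype_injective (by rwa [range_subtype])

theorem Small.of_sub {G : Type u} [Group G] [Finite G] (H : Subgroup G) (hi : ¬ 3 ∣ H.index) (h : Small H) : Small G :=
  h.of_inj H.subtype H.subtype_injective (by rwa [range_subtype])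

theorem range_index_equiv {S : Type u} {T : Type v} [Group S] [Group T] (e : S ≃* T) :
    ¬ 3 ∣ (e : S →* T).range.index := by
  rw [MonoidHom.range_eq_top.2 e.surjective, index_top]
  decide

theorem Big.congr {S : Type u} {T : Type v} [Group S] [Group T] [Finite T] (e : S ≃* T) (h : Big S) : Big T :=
  h.of_inj (e : S →* T) e.injective (range_index_equiv e)

theorem Small.congr {S : Type u} {T : Type v} [Group S] [Group T] [Finite T] (e : S ≃* T) (h : Small S) : Small T :=
  h.of_inj (e : S →* T) e.injective (range_index_equiv e)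

/-- `|X : X'| ≤ |C_X(x)|` -/
theorem comm_index_le {X : Type u} [Group X] [Finite X] (x : X) :
    (commutator X).index ≤ Nat.card (centralizer ({x} : Set X)) := by
  have h1 : (centralizer ({x} : Set X)).index ≤ Nat.card (commutator X) :=
    Nat.card_le_card_of_injective (fun q : X ⧸ centralizer ({x} : Set X) =>
      (⟨(quotientCentralizerEmbedding x q : X), subset_normalClosure (quotientCentralizerEmbedding x q).2 |>
        fun h => by rwa [commutator_eq_normalClosure]⟩ : commutator X))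
      fun a b hab => (quotientCentralizerEmbedding x).injective (Subtype.ext (congrArg Subtype.val hab :))
  have h2 := (commutator X).card_mul_index
  have h3 := (centralizer ({x} : Set X)).card_mul_index
  have h4 : 0 < Nat.card (commutator X) := Nat.card_pos
  refine Nat.le_of_mul_le_mul_left ?_ h4
  rw [h2, ← h3, mul_comm]
  exact Nat.mul_le_mul_right _ h1

theorem SmallC.small {S : Type u} [Group S] [Finite S] (h : SmallC S) : Small S := by
  have : Fact (Nat.Prime 3) := ⟨Nat.prime_three⟩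
  obtain ⟨x, ⟨k, hk⟩, h⟩ := h
  have h1 : IsPGroup 3 (zpowers x) := IsPGroup.of_card (by rw [Nat.card_zpowers, hk])
  obtain ⟨P, hP⟩ := h1.exists_le_sylow
  have hx : x ∈ (P : Subgroup S) := hP (mem_zpowers x)
  refine Small.of_one P ((comm_index_le (⟨x, hx⟩ : (P : Subgroup S))).trans ?_)
  obtain ⟨j, hj⟩ := (P.2.to_subgroup (centralizer ({⟨x, hx⟩} : Set (P : Subgroup S)))).exists_card_eq
  have h2 : Nat.card (centralizer ({⟨x, hx⟩} : Set (P : Subgroup S))) ∣ Nat.card (centralizer ({x} : Set S)) := by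
    rw [← card_map_of_injective (P : Subgroup S).subtype_injective]
    apply card_dvd_of_le
    rintro _ ⟨y, hy, rfl⟩
    rw [mem_centralizer_singleton_iff]
    exact congrArg Subtype.val (mem_centralizer_singleton_iff.1 hy)
  rw [hj] at h2 ⊢
  have h3 : j ≤ 2 := by
    by_contra h4
    exact h ((pow_dvd_pow 3 (show 3 ≤ j by omega)).trans h2)
  exact Nat.pow_le_pow_right (by norm_num) h3

theorem SmallC.of_normal {A : Type u} [Group A] [Finite A] (N : Subgroup A) [N.Normal] (hi : ¬ 3 ∣ N.index)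
    (h : SmallC N) : SmallC A := by
  obtain ⟨x, ⟨k, hk⟩, h⟩ := h
  refine ⟨x, ⟨k, by rw [orderOf_coe, hk]⟩, fun h1 => h ?_⟩
  have h2 := (N.subgroupOf (centralizer ({(x : A)} : Set A))).card_mul_index
  have h3 : ¬ 3 ∣ (N.subgroupOf (centralizer ({(x : A)} : Set A))).index :=
    fun h4 => hi (h4.trans (relIndex_dvd_index_of_normal N _))
  rw [← h2] at h1
  have h4 := (Nat.Coprime.pow_left 3 ((Nat.Prime.coprime_iff_not_dvd Nat.prime_three).2 h3)).dvd_of_dvd_mul_right h1
  refine h4.trans (dvd_of_eq (Nat.card_congr ?_))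
  exact
    { toFun := fun y => ⟨⟨y.1.1, y.2⟩, mem_centralizer_singleton_iff.2
        (Subtype.ext (mem_centralizer_singleton_iff.1 y.1.2))⟩
      invFun := fun y => ⟨⟨y.1.1, mem_centralizer_singleton_iff.2
        (congrArg Subtype.val (mem_centralizer_singleton_iff.1 y.2))⟩, y.1.2⟩
      left_inv := fun _ => rfl
      right_inv := fun _ => rfl }

theorem SmallC.k0_le {M : Ideal AlgInt} (hM : IsPModular 3 M) {S : Type u} [Group S] [Finite S] (h : SmallC S) :
    k0 M S ≤ 9 := by
  have : Fact (Nat.Prime 3) := ⟨Nat.prime_three⟩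
  obtain ⟨x, hk, h⟩ := h
  refine S4588.result 3 M hM ⟨x, hk, ?_⟩
  by_contra h1
  exact h ((Nat.prime_three.pow_dvd_iff_le_factorization Nat.card_pos.ne').2 (show 3 ≤ _ by omega))

theorem SmallC.congr {S : Type u} {T : Type v} [Group S] [Group T] (e : S ≃* T) (h : SmallC S) : SmallC T := by
  obtain ⟨x, ⟨k, hk⟩, h⟩ := h
  refine ⟨e x, ⟨k, by rw [e.orderOf_eq, hk]⟩, fun h1 => h (h1.trans (dvd_of_eq (Nat.card_congr ?_)))⟩
  refine e.symm.toEquiv.subtypeEquiv fun y => ?_
  rw [mem_centralizer_singleton_iff, mem_centralizer_singleton_iff, ← e.apply_eq_iff_eq]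
  simp

theorem SmallC.of_card {S : Type u} [Group S] (h : ¬ 27 ∣ Nat.card S) : SmallC S :=
  ⟨1, ⟨0, by simp⟩, fun h1 => h (h1.trans (card_subgroup_dvd_card _))⟩

/-! ### the number of members over a normal subgroup of index at most two -/

theorem card_split {α : Type u} [Finite α] (p q : α → Prop) :
    Nat.card {x // p x} = Nat.card {x // p x ∧ q x} + Nat.card {x // p x ∧ ¬ q x} := by
  classical
  have := Fintype.ofFinite α
  simp only [Nat.card_eq_fintype_card, Fintype.card_subtype, ← Finset.filter_filter]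
  rw [Finset.card_filter_add_card_filter_not]

section

variable {M : Ideal AlgInt} {A : Type u} [Group A] [Finite A]

/-- **SAME** -/
theorem k0_same (hM : IsPModular 3 M) (N : Subgroup A) [N.Normal] (hi : ¬ 3 ∣ N.index) (P : Sylow 3 A)
    (h : N ⊔ centralizer ((P : Subgroup A) : Set A) = ⊤) : k0 M A = k0 M N := by
  have : Fact (Nat.Prime 3) := ⟨Nat.prime_three⟩
  obtain ⟨h1, h2⟩ := S4551.result 3 M hM N hi P h
  choose f hf1 hf2 using h1
  rw [k0_eq, k0_eq]
  have hd : ∀ (χ : IrrCharacter A) (θ : IrrCharacter N), (∀ n : N, (χ : A → ℂ) n = (θ : N → ℂ) n) →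
      charDegree (χ : A → ℂ) = charDegree (θ : N → ℂ) := fun χ θ e => by
    unfold charDegree
    rw [← e 1]
    rfl
  refine Nat.card_eq_of_bijective (fun χ => ⟨f χ.1 χ.2.1, hf1 _ _, by rw [← hd _ _ (hf2 _ _)]; exact χ.2.2⟩) ⟨?_, ?_⟩
  · intro a b hab
    have e : f a.1 a.2.1 = f b.1 b.2.1 := congrArg Subtype.val hab
    obtain ⟨c, -, hc⟩ := h2 _ (hf1 a.1 a.2.1)
    exact Subtype.ext ((hc _ ⟨a.2.1, hf2 _ _⟩).trans (hc _ ⟨b.2.1, e ▸ hf2 _ _⟩).symm)
  · intro θ
    obtain ⟨c, ⟨hc1, hc2⟩, -⟩ := h2 _ θ.2.1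
    refine ⟨⟨c, hc1, by rw [hd _ _ hc2]; exact θ.2.2⟩, Subtype.ext (Subtype.ext (funext fun n => ?_))⟩
    exact (hf2 _ _ n).symm.trans (hc2 n)

/-- **TWO** -/
theorem k0_two (hM : IsPModular 3 M) (N : Subgroup A) [N.Normal] (hi : N.index = 2) (P : Sylow 3 A)
    (h : centralizer ((P : Subgroup A) : Set A) ≤ N) :
    2 * k0 M A = k0 M N + 3 * Nat.card {ψ : IrrCharacter N // Mem M ψ ∧ H41.McLTwo.Cliff.Inv N ψ} := by
  have : Fact (Nat.Prime 3) := ⟨Nat.prime_three⟩
  have := Fintype.ofFinite A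
  have := Fintype.ofFinite N
  have : Finite (IrrCharacter N) := Characters.Core.finite_irr
  have h1 := H41.TI.card_gen hi (Mem M) (Mem M) fun χ ψ ho => by
    have hd : 3 ∣ charDegree (χ : A → ℂ) ↔ 3 ∣ charDegree (ψ : N → ℂ) := by
      have h2 := Blocks.Basic.irr_one_eq_charDegree χ.2
      have h3 := Blocks.Basic.irr_one_eq_charDegree ψ.2
      rcases H614.restrict_two N hi χ.2 ψ.2 ho with h4 | ⟨h4, -⟩
      · have h5 : (χ : A → ℂ) 1 = (ψ : N → ℂ) 1 := h4 1
        rw [h2, h3, Nat.cast_inj] at h5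
        rw [h5]
      · rw [h2, h3] at h4
        have h5 : charDegree (χ : A → ℂ) = 2 * charDegree (ψ : N → ℂ) := by exact_mod_cast h4
        omega
    exact ⟨fun h2 => ⟨H611.CoverPrincipal.mem_principalBlock_of_over 3 hM N χ ψ ho h2.1, fun h3 => h2.2 (hd.2 h3)⟩,
      fun h2 => ⟨H627.BR.mem_of_over hM P N h ψ h2.1 χ ((H627.BR.ov_iff N _ _).2 ho) fun h3 => h2.2 (hd.1 h3),
        fun h3 => h2.2 (hd.1 h3)⟩⟩
  rw [k0_eq, k0_eq, h1, card_split (Mem M) (H41.McLTwo.Cliff.Inv N)]
  ring

theorem out_pos (S : Type u) [Group S] [Finite S] : 0 < out S :=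
  haveI : Finite (MulAut S) := inferInstance
  Nat.pos_of_ne_zero index_ne_zero_of_finite

theorem index_cases (N : Subgroup A) [N.Normal] (hc : centralizer (N : Set A) = ⊥) (ho : out N ≤ 2) :
    N.index = 1 ∨ (N.index = 2 ∧ out N = 2) := by
  have h1 : N.index ∣ out N := H545.PQ.index_dvd_out N hc
  have h2 := out_pos N
  have h3 := Nat.le_of_dvd h2 h1
  have h4 : N.index ≠ 0 := index_ne_zero_of_finite
  omega

/-- all automorphisms are induced -/
theorem conjNormal_surj (N : Subgroup A) [N.Normal] (hc : centralizer (N : Set A) = ⊥) (ho : out N ≤ N.index) :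
    Function.Surjective (MulAut.conjNormal : A →* MulAut N) := by
  have hf : Finite (MulAut N) := inferInstance
  have h1 : Function.Injective (MulAut.conjNormal : A →* MulAut N) := by
    rw [injective_iff_map_eq_one]
    intro a ha
    rw [← mem_bot, ← hc, mem_centralizer_iff]
    intro m hm
    have h2 := congrArg (fun f : MulAut N => ((f ⟨m, hm⟩ : N) : A)) ha
    simp only [MulAut.conjNormal_apply, MulAut.one_apply] at h2
    rw [mul_inv_eq_iff_eq_mul] at h2
    exact h2.symm
  have h2 : Nat.card (MulAut N) ≤ Nat.card A := by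
    rw [← (MulAut.conj : N →* MulAut N).range.card_mul_index, ← N.card_mul_index]
    exact Nat.mul_le_mul (Nat.card_le_card_of_surjective _ (MulAut.conj : N →* MulAut N).rangeRestrict_surjective) ho
  exact ((Nat.bijective_iff_injective_and_card _).2
    ⟨h1, le_antisymm (Nat.card_le_card_of_injective _ h1) h2⟩).2

/-- **The number of members of an almost simple group** -/
theorem k0_cases (hM : IsPModular 3 M) (N : Subgroup A) [N.Normal] (hc : centralizer (N : Set A) = ⊥)
    (ho : out N ≤ 2) : k0 M A = k0 M N ∨ (out N = 2 ∧ 2 * k0 M A = k0 M N + 3 * fx M N) := by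
  obtain ⟨P⟩ : Nonempty (Sylow 3 A) := inferInstance
  rcases index_cases N hc ho with h | ⟨h, h'⟩
  · exact .inl (k0_same hM N (by rw [h]; decide) P (by rw [index_eq_one.1 h, top_sup_eq]))
  by_cases hC : centralizer ((P : Subgroup A) : Set A) ≤ N
  · refine .inr ⟨h', ?_⟩
    rw [k0_two hM N h P hC, fx]
    congr 2
    refine Nat.card_congr (Equiv.subtypeEquivRight fun ψ => and_congr_right fun _ => ⟨fun h1 σ s => ?_, fun h1 g => ?_⟩)
    · obtain ⟨g, rfl⟩ := conjNormal_surj N hc (by omega) σ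
      exact congrFun (h1 g) s
    · exact funext (h1 _)
  · refine .inl (k0_same hM N (by rw [h]; decide) P ?_)
    have h1 : (N ⊔ centralizer ((P : Subgroup A) : Set A)).index ∣ 2 := h ▸ index_dvd_of_le le_sup_left
    rcases (Nat.dvd_prime Nat.prime_two).1 h1 with h2 | h2
    · exact index_eq_one.1 h2
    · refine absurd (le_sup_right.trans (eq_of_le_of_card_ge le_sup_left ?_).ge) hC
      have h3 := N.card_mul_index
      have h4 := (N ⊔ centralizer ((P : Subgroup A) : Set A)).card_mul_index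
      rw [h] at h3
      rw [h2] at h4
      omega

end

/-- for a group without outer automorphisms all class functions are fixed -/
theorem fixes_of_out {S : Type u} [Group S] (h : out S = 1) (σ : MulAut S) (χ : IrrCharacter S) [Finite S] :
    Fixes σ χ := by
  have h1 : σ ∈ (MulAut.conj : S →* MulAut S).range := by
    rw [index_eq_one.1 h]
    exact mem_top σ
  obtain ⟨g, rfl⟩ := h1
  exact fun s => Blocks.Basic.irr_conj χ.2 s g

theorem one_of_out {M : Ideal AlgInt} (hM : IsPModular 3 M) {S : Type u} [Group S] [Finite S] (h : out S = 1)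
    (h3 : 3 ∣ Nat.card S) : One M S := by
  have : Fact (Nat.Prime 3) := ⟨Nat.prime_three⟩
  by_contra hc
  refine (S4916.result 3 M hM).1 (fun χ h1 h2 => ?_) h3
  by_contra h4
  exact hc ⟨χ, ⟨h1, h2⟩, h4, fun σ => fixes_of_out h σ χ⟩

/-- **The rows.** -/
theorem row_of_good {K : Fam} (h : ∀ (S : Type) [Group S] [Finite S], K S → Good S) : Row K := by
  have key : ∀ (A : Type) [Group A] [Finite A] (N : Subgroup A) [N.Normal], centralizer (N : Set A) = ⊥ →
      out N ≤ 2 → ¬ 3 ∣ N.index := fun A _ _ N _ hc ho => by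
    rcases index_cases N hc ho with h1 | ⟨h1, -⟩ <;> rw [h1] <;> decide
  refine Row.of_one toolOne (fun M hM A _ _ N hA hK P hP => ?_) (fun M hM A _ _ N hA hK _ P hP => ?_)
    fun M hM S _ _ _ _ h3 hK => ?_
  · have := hA.normal
    have g := h N hK
    have hi := key A N hA.cent g.out_le
    rcases g.up with h1 | h1 | h1
    · have := h1.of_sub N hi P
      omega
    · exact (h1.of_normal N hi).k0_le hM
    · have h2 := h1 M hM
      have h3 := k0_cases hM N hA.cent g.out_le
      omega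
  · have := hA.normal
    have g := h N hK
    have hi := key A N hA.cent g.out_le
    rcases g.lo with h1 | h1
    · have := h1.of_sub N hi P
      omega
    · have h2 := h1 M hM
      have h3 := k0_cases hM N hA.cent g.out_le
      omega
  · exact (h S hK).one.elim (fun h1 => one_of_out hM h1 h3) fun h1 => h1 M hM

/-! ### isomorphisms -/

section

open H700.PrinExt

variable {M : Ideal AlgInt} {S : Type u} {T : Type v} [Group S] [Group T]

theorem out_congr (e : S ≃* T) : out S = out T := by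
  have h1 : (MulAut.conj : T →* MulAut T).range =
      (MulAut.conj : S →* MulAut S).range.map (MulAut.congr e : MulAut S →* MulAut T) := by
    ext σ
    constructor
    · rintro ⟨t, rfl⟩
      refine ⟨_, ⟨e.symm t, rfl⟩, ?_⟩
      ext x
      simp
    · rintro ⟨_, ⟨s, rfl⟩, rfl⟩
      refine ⟨e s, ?_⟩
      ext x
      simp
  rw [out, out, h1, index_map_equiv]

theorem mem_map (e : S ≃* T) {θ : IrrCharacter T} (h : Mem M θ) : Mem M (mapIrr e θ) :=
  ⟨mapIrr_mem e h.1, by rw [charDegree_mapIrr]; exact h.2⟩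

theorem fixes_map (e : S ≃* T) {θ : IrrCharacter T} (h : ∀ σ : MulAut T, Fixes σ θ) (σ : MulAut S) :
    Fixes σ (mapIrr e θ) := fun s => by
  have := h (MulAut.congr e σ) (e s)
  simpa [mapIrr_apply] using this

theorem map_map (e : S ≃* T) (θ : IrrCharacter T) : mapIrr e.symm (mapIrr e θ) = θ :=
  Subtype.ext (funext fun t => by simp [mapIrr_apply])

theorem k0_congr (e : S ≃* T) : k0 M S = k0 M T :=
  Nat.card_congr
    { toFun := fun χ => ⟨mapIrr e.symm χ.1, mem_map e.symm χ.2⟩
      invFun := fun χ => ⟨mapIrr e χ.1, mem_map e χ.2⟩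
      left_inv := fun χ => Subtype.ext (map_map e.symm χ.1)
      right_inv := fun χ => Subtype.ext (map_map e χ.1) }

theorem fx_congr (e : S ≃* T) : fx M S = fx M T :=
  Nat.card_congr
    { toFun := fun χ => ⟨mapIrr e.symm χ.1, mem_map e.symm χ.2.1, fixes_map e.symm χ.2.2⟩
      invFun := fun χ => ⟨mapIrr e χ.1, mem_map e χ.2.1, fixes_map e χ.2.2⟩
      left_inv := fun χ => Subtype.ext (map_map e.symm χ.1)
      right_inv := fun χ => Subtype.ext (map_map e χ.1) }

theorem one_congr (e : S ≃* T) (h : One M T) : One M S := by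
  obtain ⟨α, h1, h2, h3⟩ := h
  refine ⟨mapIrr e α, mem_map e h1, fun h4 => h2 (funext fun t => ?_), fixes_map e h3⟩
  simpa [mapIrr_apply] using congrFun h4 (e.symm t)

theorem Good.congr [Finite S] (e : S ≃* T) (h : Good T) : Good S where
  out_le := out_congr e ▸ h.out_le
  up := h.up.imp (Big.congr e.symm) (Or.imp (SmallC.congr e.symm) fun h1 M hM => by
    rw [k0_congr e, fx_congr e, out_congr e]
    exact h1 M hM)
  lo := h.lo.imp (Small.congr e.symm) fun h1 M hM => by
    rw [k0_congr e, fx_congr e, out_congr e]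
    exact h1 M hM
  one := h.one.imp (out_congr e).trans fun h1 M hM => one_congr e (h1 M hM)

end

/-- **The rows of one group.** -/
theorem row_of_iso {T : Type v} [Group T] (h : Good T) : Row fun S _ => Nonempty (S ≃* T) :=
  row_of_good fun _ _ _ ⟨e⟩ => h.congr e

/-! ### counting in a table -/

section

variable {G : Type u} [Group G] {n : ℕ} {d : ℕ → ℕ} {χ : ℕ → G → ℂ}

theorem count_le (hE : Enum G n d χ) [Finite G] (p : IrrCharacter G → Prop) (b : ℕ → Prop) [DecidablePred b]
    (h : ∀ j (hj : j < n), b j → p ⟨χ j, hE.irr j hj⟩) : Nat.count b n ≤ Nat.card {ψ // p ψ} := by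
  have : Finite (IrrCharacter G) := Characters.Core.finite_irr
  rw [Nat.count_eq_card_fintype, ← Nat.card_eq_fintype_card]
  exact Nat.card_le_card_of_injective (fun j => ⟨_, h j.1 j.2.1 j.2.2⟩) fun a b hab =>
    Subtype.ext (hE.inj _ a.2.1 _ b.2.1 (congrArg (fun ψ => ψ.1.1) hab))

theorem le_count (hE : Enum G n d χ) (p : IrrCharacter G → Prop) (b : ℕ → Prop) [DecidablePred b]
    (h : ∀ j (hj : j < n), p ⟨χ j, hE.irr j hj⟩ → b j) : Nat.card {ψ // p ψ} ≤ Nat.count b n := by
  rw [Nat.count_eq_card_fintype, ← Nat.card_eq_fintype_card]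
  choose f hf1 hf2 using hE.all
  refine Nat.card_le_card_of_injective (fun ψ => ⟨f _ ψ.1.2, hf1 _ _, h _ (hf1 _ _) ?_⟩) fun a b hab => ?_
  · have : (⟨χ (f _ ψ.1.2), hE.irr _ (hf1 _ _)⟩ : IrrCharacter G) = ψ.1 := Subtype.ext (hf2 _ _).symm
    rw [this]
    exact ψ.2
  · have h1 : f _ a.1.2 = f _ b.1.2 := congrArg Subtype.val hab
    exact Subtype.ext (Subtype.ext (by rw [hf2 _ a.1.2, hf2 _ b.1.2, h1]))

/-- the image of a character under an automorphism -/
theorem exists_image (hE : Enum G n d χ) (σ : MulAut G) {j : ℕ} (hj : j < n) :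
    ∃ i < n, d i = d j ∧ ∀ g, χ j (σ g) = χ i g := by
  obtain ⟨i, hi, h⟩ := hE.all _ (Characters.Core.isIrr_comp σ.toMonoidHom σ.surjective (hE.irr j hj))
  refine ⟨i, hi, ?_, fun g => congrFun h g⟩
  have h1 : χ j (σ 1) = χ i 1 := congrFun h 1
  rw [map_one, hE.deg j hj, hE.deg i hi] at h1
  exact_mod_cast h1.symm

theorem fixes_of_uniq (hE : Enum G n d χ) {j : ℕ} (hj : j < n) (h : ∀ i < n, d i = d j → i = j) (σ : MulAut G) :
    Fixes σ ⟨χ j, hE.irr j hj⟩ := by
  obtain ⟨i, hi, h1, h2⟩ := exists_image hE σ hj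
  rw [h i hi h1] at h2
  exact h2

theorem uniq_of_count {L : List ℕ} {j : ℕ} (hj : j < L.length) (h : L.count (L.getD j 0) = 1) :
    ∀ i < L.length, L.getD i 0 = L.getD j 0 → i = j := by
  intro i hi e
  by_contra hne
  have h1 : List.Duplicate (L.getD j 0) L := by
    rw [List.duplicate_iff_exists_distinct_get]
    rw [List.getD_eq_getElem _ _ hi] at e
    rcases Nat.lt_or_gt_of_ne hne with h2 | h2
    · exact ⟨⟨i, hi⟩, ⟨j, hj⟩, h2, e.symm, List.getD_eq_getElem _ _ hj⟩
    · exact ⟨⟨j, hj⟩, ⟨i, hi⟩, h2, List.getD_eq_getElem _ _ hj, e.symm⟩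
  have := List.duplicate_iff_two_le_count.1 h1
  omega

end

/-- the number of degrees prime to `3` -/
def m3 (L : List ℕ) : ℕ := Nat.count (fun j => L.getD j 0 % 3 ≠ 0) L.length

/-- the number of degrees prime to `3` which occur once -/
def u3 (L : List ℕ) : ℕ := Nat.count (fun j => L.getD j 0 % 3 ≠ 0 ∧ L.count (L.getD j 0) = 1) L.length

section

variable {M : Ideal AlgInt} {S : Type u} [Group S] [Finite S] {L : List ℕ}

omit [Finite S] in
theorem k0_le_m3 (hL : DegList S L) : k0 M S ≤ m3 L := by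
  obtain ⟨χ, hE⟩ := hL
  refine le_count hE (Mem M) _ fun j hj h h1 => h.2 ?_
  rw [hE.charDegree_eq hj]
  exact Nat.dvd_of_mod_eq_zero h1

theorem m3_le_k0 (hM : IsPModular 3 M) (hC : CP S) (hL : DegList S L) : m3 L ≤ k0 M S := by
  obtain ⟨χ, hE⟩ := hL
  obtain ⟨P⟩ : Nonempty (Sylow 3 S) := inferInstance
  refine count_le hE (Mem M) _ fun j hj h => mem_of_cent hM P (hC P) fun h1 => h ?_
  rw [hE.charDegree_eq hj] at h1
  exact Nat.mod_eq_zero_of_dvd h1

theorem u3_le_fx (hM : IsPModular 3 M) (hC : CP S) (hL : DegList S L) : u3 L ≤ fx M S := by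
  obtain ⟨χ, hE⟩ := hL
  obtain ⟨P⟩ : Nonempty (Sylow 3 S) := inferInstance
  refine count_le hE _ _ fun j hj h => ⟨mem_of_cent hM P (hC P) fun h1 => h.1 ?_,
    fixes_of_uniq hE hj (uniq_of_count hj h.2)⟩
  rw [hE.charDegree_eq hj] at h1
  exact Nat.mod_eq_zero_of_dvd h1

theorem one_of_fx (h : 2 ≤ fx M S) : One M S := by
  have : Finite (IrrCharacter S) := Characters.Core.finite_irr
  obtain ⟨a, b, hab⟩ := (Finite.one_lt_card_iff_nontrivial.1 h).1
  by_cases h1 : a.1 = triv S
  · exact ⟨b.1, b.2.1, nontriv_iff.2 fun h2 => hab (Subtype.ext (h1.trans h2.symm)), b.2.2⟩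
  · exact ⟨a.1, a.2.1, nontriv_iff.2 h1, a.2.2⟩

/-- **Groups with `|P : P'| ≥ 27`**; the three numerical conditions are checked by `decide +kernel`. -/
theorem Good.of_big (ho : out S ≤ 2) (hB : Big S) (hC : CP S) (hL : DegList S L)
    (h : 10 ≤ m3 L ∧ 19 ≤ m3 L + 3 * u3 L ∧ 2 ≤ u3 L) : Good S where
  out_le := ho
  up := .inl hB
  lo := .inr fun M hM => by
    have h1 := m3_le_k0 hM hC hL
    have h2 := u3_le_fx hM hC hL
    omega
  one := .inr fun _ hM => one_of_fx (h.2.2.trans (u3_le_fx hM hC hL))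

/-- **Groups with a small centralizer.** -/
theorem Good.of_smallC (ho : out S ≤ 2) (hC : SmallC S) (h1 : out S = 1 ∨ ∀ M, IsPModular 3 M → One M S) : Good S :=
  ⟨ho, .inr (.inl hC), .inl hC.small, h1⟩

end

/-! ### centralizers from a table -/

section

variable {G : Type u} [Group G] [Finite G]

/-- integrality of the central character: `χ(1) ∣ |G : C(g)| χ(g)` -/
theorem deg_dvd {ψ : G → ℂ} (hψ : IsIrrCharacter G ψ) {d : ℕ} (hd : ψ 1 = d) {g : G} {w : ℤ} (hw : ψ g = w) :
    (d : ℤ) ∣ ((centralizer ({g} : Set G)).index : ℤ) * w := by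
  have h1 := Blocks.Basic.irr_one_ne_zero hψ
  have h2 := S0902.isIntegral_centralChar ⟨ψ, hψ⟩ g
  have h3 : centralChar ψ g = algebraMap ℚ ℂ ((((centralizer ({g} : Set G)).index : ℤ) * w : ℤ) / (d : ℤ)) := by
    unfold centralChar
    rw [hd, hw]
    simp
  change IsIntegral ℤ (centralChar ψ g) at h2
  rw [h3, isIntegral_algebraMap_iff (algebraMap ℚ ℂ).injective] at h2
  obtain ⟨z, hz⟩ := IsIntegrallyClosed.isIntegral_iff.1 h2
  have h4 : (d : ℚ) ≠ 0 := by
    rw [hd] at h1
    exact_mod_cast h1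
  refine ⟨z, ?_⟩
  have h5 : (((centralizer ({g} : Set G)).index : ℤ) * w : ℤ) = ((d : ℤ) * z : ℚ) := by
    rw [eq_div_iff (by exact_mod_cast h4)] at hz
    rw [← hz]
    simp [mul_comm]
  exact_mod_cast h5

variable {D : Dat} {T : TD G D} {R : Rows}

/-- a rational row shows that `3 ^ e` divides the lengths of the classes of type `t` -/
def lenB (R : Rows) (e t : ℕ) : Bool :=
  R.rel.any fun r => r.1.any fun q => r.1 == [(q.1, 1)] && decide (q.1 < R.n) &&
    (List.range 50).any fun a => R.d q.1 % 3 ^ (a + e) == 0 && r.2.getD t 0 % 3 ^ (a + 1) != 0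

theorem dvd_index_of_tab (h : Tab T R) {e : ℕ} {g : G} (hc : lenB R e (T.ty g) = true) :
    3 ^ e ∣ (centralizer ({g} : Set G)).index := by
  obtain ⟨χ, hE, hR⟩ := h
  simp only [lenB, List.any_eq_true, Bool.and_eq_true, beq_iff_eq, decide_eq_true_eq, bne_iff_ne] at hc
  obtain ⟨r, hr, q, -, ⟨h1, h2⟩, a, -, h3, h4⟩ := hc
  have h5 := deg_dvd (hE.irr _ h2) (hE.deg _ h2) (hR.row hr h1 g)
  have h6 : ((3 : ℤ) ^ (a + e)) ∣ ((centralizer ({g} : Set G)).index : ℤ) * r.2.getD (T.ty g) 0 := by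
    refine Dvd.dvd.trans ?_ h5
    exact_mod_cast Nat.dvd_of_mod_eq_zero h3
  have h7 : ¬ (3 : ℤ) ^ (a + 1) ∣ r.2.getD (T.ty g) 0 := fun h8 => h4 (Int.emod_eq_zero_of_dvd h8)
  generalize r.2.getD (T.ty g) 0 = w at h6 h7
  have h8 : ((3 : ℤ) ^ e) ∣ ((centralizer ({g} : Set G)).index : ℤ) := by
    have h9 : w ≠ 0 := fun h9 => h7 (h9 ▸ dvd_zero _)
    obtain ⟨b, v, hv, rfl⟩ := WfDvdMonoid.max_power_factor h9 Int.prime_three.irreducible
    have h10 : b ≤ a := by
      by_contra h10
      exact h7 ((pow_dvd_pow 3 (by omega)).mul_right v)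
    obtain ⟨c, rfl⟩ := Nat.exists_eq_add_of_le h10
    have h11 : (3 : ℤ) ^ b * 3 ^ e ∣ 3 ^ b * (((centralizer ({g} : Set G)).index : ℤ) * v) := by
      refine Dvd.dvd.trans ⟨3 ^ c, by ring⟩ (h6.trans (dvd_of_eq (by ring)))
    exact Int.prime_three.pow_dvd_of_dvd_mul_right e hv (Int.dvd_of_mul_dvd_mul_left (by positivity) h11)
  exact_mod_cast h8

/-- **`CP` from a table**; the check by `decide +kernel` -/
theorem cp_of_tab (h : Tab T R)
    (hc : ((List.range D.n).all fun t => D.ord t % 3 == 0 || D.ord t == 1 || lenB R 1 t) = true) : CP G := by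
  have : Fact (Nat.Prime 3) := ⟨Nat.prime_three⟩
  intro P x hx h3
  have h1 := List.all_eq_true.1 hc _ (List.mem_range.2 (T.lt x))
  simp only [Bool.or_eq_true, beq_iff_eq, ← T.ord] at h1
  rcases h1 with (h1 | h1) | h1
  · exact absurd (Nat.dvd_of_mod_eq_zero h1) h3
  · exact orderOf_eq_one_iff.1 h1
  · exact absurd (dvd_index_of_tab h h1) (H700.PrinCrit.not_dvd_index_of_mem_centralizer P.not_dvd_index hx)

/-- **`SmallC` from a table** -/
theorem smallC_of_tab (h : Tab T R) (hI : Inh T) (hN : Nat.card G = D.N) (t k e : ℕ)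
    (hc : t < D.n ∧ D.ord t = 3 ^ k ∧ D.N % 3 ^ (e + 3) ≠ 0 ∧ lenB R e t = true) : SmallC G := by
  obtain ⟨h1, h2, h3, h4⟩ := hc
  obtain ⟨x, rfl⟩ := hI t h1
  refine ⟨x, ⟨k, (T.ord x).trans h2⟩, fun h5 => h3 (Nat.mod_eq_zero_of_dvd ?_)⟩
  rw [← hN, ← (centralizer ({x} : Set G)).index_mul_card, pow_add]
  exact mul_dvd_mul (dvd_index_of_tab h h4) h5

end

end Cfsg.Agent.KZ.Spor
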