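import Cfsg.Agent.KZ.Spor.Tab
import Cfsg.Agent.TAB.J3.Main
import Cfsg.Agent.SP.NJ3.Fin
import Cfsg.Agent.H792.Sp.JThree

/-!
# KZ: the group `J3` (helper67)

The Sylow `3`-subgroup has abelianization of order `9`; the outer automorphism moves the characters of degrees
`85`, `323` and `646` (the argument is the one of `TAB.J3.aut0`).
-/

set_option autoImplicit false
set_option maxRecDepth 100000

namespace Cfsg.Agent.KZ.Spor

section

open Subgroup Cfsg Cfsg.Spor Cfsg.Agent.J3.Core Cfsg.Agent.J3.Tab Cfsg.Agent.J3.Mono Cfsg.Agent.J3.Elts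
  Cfsg.Agent.H898.J3Three Cfsg.Agent.H792.SpJ3
open Cfsg.Agent.J3.Nineteen (exists_scalar)

theorem chk_dd : ∃ s k : Fin 3, ∃ x : F9, k ≠ 0 ∧ beqL (compT (tD (1, 0)) (cols (tD (0, 1))))
    (compT (compT (tS s) (tab k x (0, 1))) (cols (tD (1, 0)))) = true := by decide +kernel

theorem small_J3 {F : Type*} [Field F] [Fintype F] {ω : F} (hF : Fintype.card F = 4) (H : J3.Core.Good ω) :
    Small (J3 F ω) := by
  have : Fact (Nat.Prime 3) := ⟨Nat.prime_three⟩
  have := finite_three hF H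
  obtain ⟨G⟩ := exists_gens hF H
  obtain ⟨s0, hs0⟩ := exists_scalar H G
  obtain ⟨S, hS⟩ := exists_S hF H G
  refine Small.of_one S ?_
  have hd : ∀ w, pr (G.d w) ∈ (S : Subgroup (J3 F ω)) := fun w =>
    (hS _).2 ⟨0, 0, w, by rw [pow_zero, a_zero H G, one_mul, one_mul]⟩
  have he : pr G.e ∈ (S : Subgroup (J3 F ω)) := (hS _).2 ⟨1, 0, 0, by rw [pow_one, a_zero H G, d_zero, one_mul, mul_one]⟩
  let C := (commutator (S : Subgroup (J3 F ω))).map (S : Subgroup (J3 F ω)).subtype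
  have hC : ∀ {x y : J3 F ω}, x ∈ (S : Subgroup (J3 F ω)) → y ∈ (S : Subgroup (J3 F ω)) → x * y * x⁻¹ * y⁻¹ ∈ C :=
    fun {x y} hx hy => ⟨_, commutator_mem_commutator (mem_top ⟨x, hx⟩) (mem_top ⟨y, hy⟩), rfl⟩
  have ha : ∀ w, pr (G.a w) ∈ C := fun w => by
    have h1 := pr_dek hF H G w 1
    rw [pow_one, one_smul] at h1
    have h2 := hC (inv_mem he) (hd w)
    rwa [inv_inv, mul_assoc _ _ (pr G.e), h1, show (pr G.e)⁻¹ * (pr G.e * pr (G.a w) * pr (G.d w)) * (pr (G.d w))⁻¹ =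
      pr (G.a w) by group] at h2
  have hE : pr G.e ∈ C := by
    obtain ⟨s, k, x, hk, h1⟩ := chk_dd
    have rd : ∀ w, RepG ω (tD w) (G.d w) := fun w => by
      unfold RepG
      rw [G.hd]
      exact repD H w
    have h2 : G.d (1, 0) * G.d (0, 1) = el G s0 s k x (0, 1) * G.d (1, 0) :=
      ((rd _).mul (rd _)).ext ((repG_el' G H hs0 s k x (0, 1)).mul (rd _))
        (by rw [cols_compT, cols_compT]; exact beqL_eq h1)
    have h3 := hC (hd (1, 0)) (hd (0, 1))
    rw [← map_mul, h2, el, map_mul, map_mul, pr_s0 hF H hs0, one_mul, map_mul, map_mul, map_pow,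
      show pr G.e ^ (k : ℕ) * (pr (G.a x) * pr (G.d (0, 1))) * pr (G.d (1, 0)) * (pr (G.d (1, 0)))⁻¹ *
        (pr (G.d (0, 1)))⁻¹ = pr G.e ^ (k : ℕ) * pr (G.a x) by group, C.mul_mem_cancel_right (ha x)] at h3
    have h4 := C.pow_mem h3 k
    have h5 : (k : ℕ) * k % 3 = 1 := (by decide : ∀ k : Fin 3, k ≠ 0 → (k : ℕ) * k % 3 = 1) k hk
    rwa [← pow_mul, ← map_pow, e_mod H G, h5, pow_one] at h4
  refine (Nat.card_le_card_of_surjective (fun w : F9 => ((⟨_, hd w⟩ : (S : Subgroup (J3 F ω))) :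
    (S : Subgroup (J3 F ω)) ⧸ commutator (S : Subgroup (J3 F ω)))) fun q => ?_).trans
    (by rw [Nat.card_eq_fintype_card]; decide)
  obtain ⟨⟨x, hx⟩, rfl⟩ := QuotientGroup.mk_surjective q
  obtain ⟨k, a, w, rfl⟩ := (hS x).1 hx
  refine ⟨w, (QuotientGroup.eq_iff_div_mem.2 ?_).symm⟩
  rw [← mem_map_iff_mem (S : Subgroup (J3 F ω)).subtype_injective]
  change pr (G.e ^ k * (G.a a * G.d w)) / pr (G.d w) ∈ C
  rw [← mul_assoc, map_mul, mul_div_cancel_right, map_mul, map_pow]
  exact C.mul_mem (C.pow_mem hE k) (ha a)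

end

open Cfsg Cfsg.Spor Subgroup Cfsg.Agent.TAB.Use Cfsg.Agent.TAB.Sm1 Cfsg.Agent.Characters Cfsg.Agent.ODD.Red
open Cfsg.Agent.TAB.J3
open Cfsg.Agent.H306.SD.J (degs finite_of index_inn)
open Cfsg.Agent.H296.JT (cn5)

variable {K : Type} [Group K]

theorem cp_J3 (h : IsoJ3 K) : CP K := by
  have := finite_of h
  refine cp_of_prime fun y hy h3 => ?_
  have h1 := (centralizer ({y} : Set K)).card_mul_index
  rw [card_eq h] at h1
  rcases H898.J3Cent.prime_dvd_card hy ((orderOf_dvd_natCard y).trans (card_eq h).dvd) with h2 | h2 | h2 | h2 | h2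
  · rw [SP.NJ3.cent_two h h2] at h1
    omega
  · exact absurd h2 h3
  · rw [(cn5 h h2).1] at h1
    omega
  · rw [(H898.J3Cent.seventeen h h2).1] at h1
    omega
  · rw [H898.J3Cent.card_nineteen h h2] at h1
    omega

theorem not_inv_J3 (h : IsoJ3 K) {χ : ℕ → K → ℂ} (hE : Enum K degs.length (fun j => degs.getD j 0) χ) {j : ℕ}
    (h2 : j ∈ [3, 4, 6, 7, 16, 17]) (hinv : ∀ (α : MulAut K) (g : K), χ j (α g) = χ j g) : False := by
  have := finite_of h
  have hj : j < degs.length := (by decide : ∀ j ∈ [3, 4, 6, 7, 16, 17], j < degs.length) j h2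
  have hψ := hE.irr j hj
  obtain ⟨α, hα⟩ := H469.S8.exists_aut h
  have hcl : ∀ {a b : K}, IsConj a b → χ j a = χ j b := fun e => GaloisIrr.isConj_iff_forall_irr.1 e _ hψ
  have hα' : α ∉ (MulAut.conj : K →* MulAut K).range := by
    rintro ⟨c, rfl⟩
    obtain ⟨x, hx⟩ := exists_ord h (p := 19) (by norm_num) (by norm_num)
    exact hα x hx (isConj_iff.2 ⟨c, rfl⟩)
  have hk : Nat.Coprime 30139777 (Nat.card K) := by rw [card_eq h]; norm_num
  have h3 : ∀ g : K, ¬ 5 ∣ orderOf g → g ^ 30139777 = g := fun g hg => by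
    have h4 : orderOf g ∣ 5 * 10046592 := (orderOf_dvd_natCard g).trans (card_eq h).dvd
    have h5 := orderOf_dvd_iff_pow_eq_one.1
      (((Nat.Prime.coprime_iff_not_dvd Nat.prime_five).2 hg).symm.dvd_of_dvd_mul_left h4)
    rw [show 30139777 = 10046592 * 3 + 1 from rfl, pow_succ, pow_mul, h5, one_pow, one_mul]
  have h4 : ∀ g : K, 5 ∣ orderOf g → ¬ IsConj g (g ^ 30139777) ∧ ¬ IsConj g (α g) := fun g hg => by
    have h5 := orderOf_pow_orderOf_div (orderOf_pos g).ne' hg
    refine ⟨fun h6 => not_sq h h5 ?_, fun h6 => moves h hα' h5 ?_⟩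
    · have h7 := h6.pow (orderOf g / 5)
      rwa [← pow_mul, mul_comm, pow_mul, ← pow_mod_orderOf _ 30139777, h5] at h7
    · rw [map_pow]
      exact h6.pow _
  have ho' : ∀ a : K, orderOf (a ^ 30139777) = orderOf a := fun a =>
    (hk.coprime_dvd_right (orderOf_dvd_natCard a)).symm.orderOf_pow
  have h5 : ∀ O : List ℕ, O.Nodup → (∀ o ∈ O, o = 5 ∨ o = 10 ∨ o = 15) →
      ∃ L : List K, Mv 30139777 L ∧ L.length = 2 * O.length ∧ ∀ a ∈ L, orderOf a ∈ O := fun O hO hO' =>
    exists_mv hk (fun _ _ => order_conj) ho' O hO fun o ho => by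
      obtain ⟨x, hx⟩ := exists_ord h (p := 5) (by norm_num) (by norm_num)
      obtain ⟨t, ht, htx⟩ := H715.Fpr.J3.exists_inv h hx
      obtain ⟨y, hy, hyx⟩ := H47.Wk.JThree.exists_three h hx
      have h6 := Commute.orderOf_mul_eq_mul_orderOf_of_coprime htx (by rw [ht, hx]; norm_num)
      have h7 := Commute.orderOf_mul_eq_mul_orderOf_of_coprime hyx (by rw [hy, hx]; norm_num)
      rw [hx] at h6 h7
      rcases hO' o ho with rfl | rfl | rfl
      · exact ⟨x, hx, (h4 _ (by rw [hx])).1⟩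
      · exact ⟨t * x, by rw [h6, ht], (h4 _ (by rw [h6, ht]; norm_num)).1⟩
      · exact ⟨y * x, by rw [h7, hy], (h4 _ (by rw [h7, hy]; norm_num)).1⟩
  have h6 : ∀ i < degs.length, i ∉ [3, 4, 6, 7, 16, 17] → ∀ g, χ i (g ^ 30139777) = χ i g := fun i hi h6 g => by
    have h7 : ∀ i < degs.length, i ∉ [3, 4, 6, 7, 16, 17] → 5 ^ 1 ∣ degs.getD i 0 ∨
        ∀ l < degs.length, degs.getD l 0 = degs.getD i 0 → l = i := by decide +kernel
    rcases h7 i hi h6 with h8 | h8
    · by_cases h9 : 5 ∣ orderOf g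
      · rw [dz h (hE.irr i hi) (hE.deg i hi) (by simp) h8 h9,
          dz h (hE.irr i hi) (hE.deg i hi) (by simp) h8 (by rwa [ho'])]
      · rw [h3 g h9]
    · obtain ⟨τ, hτ⟩ := GaloisBasic.exists_ringEquiv_of_coprime hk
      rw [← hτ _ (Core.isIrr_isCharacter (hE.irr i hi)), fix_of_uniq hE hi h8 τ]
  have h7 := moved_le hk hE _ h6
  have h8 : ∀ g, χ j (g ^ 30139777) = χ j g := fun g => by
    by_cases h9 : 5 ∣ orderOf g
    · rw [← hinv α g]
      refine hcl (by_contra fun h10 => ?_)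
      obtain ⟨L, h11, h12, h13⟩ := h5 ([5, 10, 15].erase (orderOf g)) (List.Nodup.erase _ (by decide))
        fun o ho => by simpa using List.mem_of_mem_erase ho
      have h14 : Mv 30139777 [g, g ^ 30139777, α g] := ⟨by simpa only [List.pairwise_cons, List.forall_mem_cons,
        List.not_mem_nil, false_imp_iff, implies_true, List.Pairwise.nil, and_true] using ⟨h4 g h9, h10⟩,
        List.forall_mem_cons.2 ⟨(h4 g h9).1, List.forall_mem_cons.2 ⟨not_conj_pow hk (h4 g h9).1,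
          List.forall_mem_singleton.2 (h4 _ (by rwa [α.orderOf_eq])).1⟩⟩⟩
      have h15 := le_moved (h14.append (f := orderOf) (fun _ _ => order_conj) h11 fun a ha b hb h15 => by
        have h16 : orderOf a = orderOf g := by
          simp only [List.mem_cons, List.not_mem_nil, or_false] at ha
          rcases ha with rfl | rfl | rfl
          exacts [rfl, ho' g, α.orderOf_eq g]
        have h17 := h13 b hb
        rw [← h15, h16] at h17
        exact (List.Nodup.not_mem_erase (by decide)) h17)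
      have h17 : 2 ≤ ([5, 10, 15].erase (orderOf g)).length := by
        rw [List.length_erase]
        split_ifs <;> decide
      simp only [List.length_append, List.length_cons, List.length_nil] at h7 h15
      omega
    · rw [h3 g h9]
  obtain ⟨L, h9, h10, -⟩ := h5 [5, 10, 15] (by decide) (by simp)
  have h11 := le_moved h9
  have h12 := moved_le hk hE ([3, 4, 6, 7, 16, 17].erase j) fun i hi h12 => by
    by_cases h13 : i = j
    · rwa [h13]
    · exact h6 i hi fun h14 => h12 ((List.mem_erase_of_ne h13).2 h14)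
  rw [List.length_erase_of_mem h2] at h12
  simp only [List.length_cons, List.length_nil] at h10 h12
  omega

theorem fx_J3 (h : IsoJ3 K) (M : Ideal AlgInt) : fx M K ≤ 3 := by
  have := finite_of h
  obtain ⟨χ, hE⟩ := deg h
  refine (le_count hE _ (fun j => j = 0 ∨ j = 12 ∨ j = 18) fun j hj h1 => ?_).trans (by decide +kernel)
  have h2 : ∀ j < degs.length, (j = 0 ∨ j = 12 ∨ j = 18) ∨ 3 ∣ degs.getD j 0 ∨ degs.getD j 0 = 85 ∨
      j ∈ [3, 4, 6, 7, 16, 17] := by decide +kernel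
  rcases h2 j hj with h3 | h3 | h3 | h3
  · exact h3
  · exact absurd (by rwa [hE.charDegree_eq hj]) h1.1.2
  · exact (H469.S8.not_inv h ⟨_, hE.irr j hj⟩ (Or.inl (by rw [M23Order.Base.dg, hE.charDegree_eq hj, h3])) h1.2).elim
  · exact (not_inv_J3 h hE h3 h1.2).elim

theorem good_J3 (h : IsoJ3 K) : Good K := by
  have := finite_of h
  refine ⟨(index_inn h).le, .inr (.inr fun M _ => ?_), .inl ?_, .inr (one_of_deg (cp_J3 h) (deg h) (by decide +kernel))⟩
  · have h1 : k0 M K ≤ 9 := (k0_le_m3 (deg h)).trans (by decide +kernel)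
    have h2 := fx_J3 h M
    omega
  · obtain ⟨F, _, _, ω, hF, hω, ⟨e⟩⟩ := h
    exact (small_J3 hF (J3.Core.good_of_card hF hω)).congr e.symm

end Cfsg.Agent.KZ.Spor
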