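import Cfsg.Agent.KZ.Spor.Small
import Cfsg.Agent.TAB.J4.Main
import Cfsg.Agent.S2068

/-!
# KZ: the group `J4` (helper67)

The class `2A` centralizes a Sylow `3`-subgroup; nine of the eighteen characters of degree prime to `3` pass the test.
-/

set_option autoImplicit false

namespace Cfsg.Agent.KZ.Spor

open Cfsg Subgroup Cfsg.Agent.TAB Cfsg.Agent.TAB.Use Cfsg.Agent.TAB.Eng

theorem colB_J4 : colB J4.RR 1 21799895040 = true := by decide +kernel

theorem cnt_J4 : Nat.count (fun j => conB J4.RR 1 j = true) J4.RR.n ≤ 9 := by decide +kernel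

theorem good_J4 : Good Spor.J4 := by
  have := finite_of_card J4.card_J4 (by decide)
  have := finite_of_card Sm2.M24.card_eq (by decide)
  have h1 : out Spor.J4 = 1 := S2068.result
  refine ⟨by omega, .inr (.inr fun M hM => ⟨?_, by omega⟩), .inl (smallC_M24.small.of_inj _ H858.VK.phi_injective
    (not_dvd_range_index _ H858.VK.phi_injective (e := 3) (by rw [Sm2.M24.card_eq]; decide)
      (by rw [J4.card_J4]; decide))), .inl h1⟩
  obtain ⟨T, hm, hT, h⟩ := J4.tab
  obtain ⟨P⟩ : Nonempty (Sylow 3 Spor.J4) := inferInstance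
  obtain ⟨x, hx, h2⟩ := exists_cent hm P (t := 1) (by decide) (by decide +kernel)
  obtain ⟨s, hs⟩ := J4.ex_is x
  obtain rfl : s = 1 := (hT x s hs).symm.trans h2
  exact (k0_le_col hM h P hx h2 hs.cen colB_J4).trans cnt_J4

end Cfsg.Agent.KZ.Spor
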