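import Cfsg.Agent.KZ.Spor.J3
import Cfsg.Agent.KZ.Spor.J4
import Cfsg.Agent.KZ.Spor.Tits

/-!
# KZ: `Box.spor` from the fourteen large groups (helper67)
-/

set_option autoImplicit false

namespace Cfsg.Agent.KZ.Spor

open Cfsg

/-- `Good` for all finite groups in a family -/
def GoodF (K : Fam) : Prop := ∀ (S : Type) [Group S] [Finite S], K S → Good S

theorem goodF_of {T : Type*} [Group T] (h : Good T) : GoodF fun S _ => Nonempty (S ≃* T) :=
  fun _ _ _ ⟨e⟩ => h.congr e

/-- the groups with `|P : P'| ≥ 27` -/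
structure Large : Prop where
  co1 : GoodF fun S _ => Spor.IsoCo1 S
  co2 : GoodF fun S _ => Spor.IsoCo2 S
  co3 : GoodF fun S _ => Spor.IsoCo3 S
  mcl : GoodF fun S _ => Spor.IsoMcL S
  suz : GoodF fun S _ => Spor.IsoSuz S
  on : GoodF fun S _ => Spor.IsoON S
  ly : GoodF fun S _ => Spor.IsoLy S
  fi22 : GoodF fun S _ => Spor.IsoFi22 S
  fi23 : GoodF fun S _ => Spor.IsoFi23 S
  fi24 : GoodF fun S _ => Spor.IsoFi24' S
  hn : GoodF fun S _ => Spor.IsoHN S
  th : GoodF fun S _ => Spor.IsoTh S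
  b : GoodF fun S _ => Spor.IsoB S
  m : GoodF fun S _ => Spor.IsoM S

/-- **`Box.spor`** -/
theorem row_spor_of (L : Large) : Row fun S _ => IsSporadicGroup S := row_of_good fun S _ _ h => by
  rcases h with h | h | h | h | h | h | h | h | h | h | h | h | h | h | h | h | h | h | h | h | h | h | h | h | h | h
  exacts [goodF_of good_M11 S h, goodF_of good_M12 S h, goodF_of good_M22 S h, goodF_of good_M23 S h,
    goodF_of good_M24 S h, goodF_of good_J1 S h, goodF_of good_J2 S h, good_J3 h, goodF_of good_J4 S h, L.co1 S h,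
    L.co2 S h, L.co3 S h, L.mcl S h, goodF_of good_HS S h, L.suz S h, goodF_of good_He S h, goodF_of good_Ru S h,
    L.on S h, L.ly S h, L.fi22 S h, L.fi23 S h, L.fi24 S h, L.hn S h, L.th S h, L.b S h, L.m S h]

end Cfsg.Agent.KZ.Spor
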