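import Cfsg.Agent.KZ.Spor.Tab
import Cfsg.Agent.TAB.Sm2.M11
import Cfsg.Agent.TAB.Sm2.M12
import Cfsg.Agent.TAB.Sm2.M22
import Cfsg.Agent.TAB.Sm2.M23
import Cfsg.Agent.TAB.Sm2.M24
import Cfsg.Agent.TAB.J1.Main
import Cfsg.Agent.TAB.J2.Main
import Cfsg.Agent.TAB.HS.Main
import Cfsg.Agent.TAB.He.Main
import Cfsg.Agent.TAB.Ru.Main
import Cfsg.Agent.H859.Ccp.Ru
import Cfsg.Agent.S2060
import Cfsg.Agent.S2061
import Cfsg.Agent.S2062
import Cfsg.Agent.S2063
import Cfsg.Agent.S2064
import Cfsg.Agent.S2065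
import Cfsg.Agent.S2066
import Cfsg.Agent.S2072
import Cfsg.Agent.S2075
import Cfsg.Agent.S2077

/-!
# KZ: the groups `M11 M12 M22 M23 M24 J1 J2 HS He Ru` (helper67)
-/

set_option autoImplicit false

namespace Cfsg.Agent.KZ.Spor

open Cfsg Subgroup Cfsg.Agent.TAB Cfsg.Agent.TAB.Use Cfsg.Agent.TAB.Eng Cfsg.Agent.TAB.Co

theorem finite_of_card {G : Type*} {n : ℕ} (h : Nat.card G = n) (hn : n ≠ 0) : Finite G :=
  Nat.finite_of_card_ne_zero (h ▸ hn)

theorem good_M11 : Good Spor.M11 := by
  have := finite_of_card Sm2.M11.card_eq (by decide)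
  exact Good.of_smallC (S2060.result.trans_le (by norm_num)) (SmallC.of_card (by rw [Sm2.M11.card_eq]; decide))
    (.inl S2060.result)

theorem good_M12 : Good Spor.M12 := by
  have := finite_of_card Sm2.M12.card_eq (by decide)
  obtain ⟨T, hm, h, -⟩ := Sm2.M12.tab
  exact Good.of_smallC S2061.result.le
    (smallC_of_tab h (inh_of_mass hm (by decide +kernel)) hm.1 3 1 1 (by decide +kernel))
    (.inr (one_of_tab h 12 (by decide +kernel)))

theorem good_M22 : Good Spor.M22 := by
  have := finite_of_card Sm2.M22.card_eq (by decide)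
  obtain ⟨T, hm, h, -⟩ := Sm2.M22.tab
  exact Good.of_smallC S2062.result.le (SmallC.of_card (by rw [Sm2.M22.card_eq]; decide))
    (.inr (one_of_tab h 2 (by decide +kernel)))

theorem good_M23 : Good Spor.M23 := by
  have := finite_of_card Sm2.M23.card_eq (by decide)
  exact Good.of_smallC (S2063.result.trans_le (by norm_num)) (SmallC.of_card (by rw [Sm2.M23.card_eq]; decide))
    (.inl S2063.result)

theorem smallC_M24 : SmallC M24 := by
  have := finite_of_card Sm2.M24.card_eq (by decide)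
  obtain ⟨T, hm, h, -⟩ := Sm2.M24.tab
  exact smallC_of_tab h (inh_of_mass hm (by decide +kernel)) hm.1 4 1 1 (by decide +kernel)

theorem good_M24 : Good M24 := by
  have := finite_of_card Sm2.M24.card_eq (by decide)
  exact Good.of_smallC (S2064.result.trans_le (by norm_num)) smallC_M24 (.inl S2064.result)

theorem good_J1 : Good Spor.J1 := by
  have := J1.finite
  exact Good.of_smallC (S2065.result.trans_le (by norm_num))
    (SmallC.of_card (by rw [H413.JOneLocal.card_J1]; decide)) (.inl S2065.result)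

theorem good_J2 : Good Spor.J2 := by
  have := J2.finite
  obtain ⟨e⟩ := H379.J2Spec.iso
  obtain ⟨T, hm, -, -, -, hI, h⟩ := J2.tab
  have := finite_of_card hm.1 (by decide)
  exact (Good.of_smallC (((out_congr e).symm.trans S2066.result).le)
    (smallC_of_tab h hI hm.1 4 1 1 (by decide +kernel)) (.inr (one_of_tab h 5 (by decide +kernel)))).congr e

theorem good_HS : Good Spor.HS := by
  have := HS.finite
  obtain ⟨T, hm, hs⟩ := HS.seeded
  exact Good.of_smallC S2072.result.le (SmallC.of_card (by rw [hm.1]; decide))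
    (.inr (one_of_tab (HS.tab hm hs).2 1 (by decide +kernel)))

theorem tab_He : ∃ T : TD Spor.He He.D, T.Mass ∧ Tab T He.RR := by
  have := He.finite
  obtain ⟨T, hm, hs⟩ := He.seeded
  have h1 := Sm1.virt_okC hm.1 hs He.ok_A
  have h2 := h1 He.u List.mem_cons_self
  have h3 := virt_half hm h2 (fun p hp => h1 _ (List.mem_cons_of_mem _ (List.of_mem_zip hp).2)) He.ok_H
  have h4 : Virt T (nth He.w2) := (h2.add (h3.smul (-1))).congr (by decide +kernel)
  exact ⟨T, hm, Sm1.tab_of_cls hm (fun r hr => List.forall_mem_append.2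
    ⟨fun r hr => h1 r (List.mem_cons_of_mem _ (List.mem_cons_of_mem _ hr)),
      List.forall_mem_cons.2 ⟨h3, List.forall_mem_singleton.2 h4⟩⟩ _ (List.of_mem_zip hr).2) He.ok_R He.classes⟩

theorem good_He : Good Spor.He := by
  have := He.finite
  obtain ⟨T, hm, h⟩ := tab_He
  exact Good.of_smallC S2075.result.le
    (smallC_of_tab h (inh_of_mass hm (by decide +kernel)) hm.1 4 1 1 (by decide +kernel))
    (.inr (one_of_tab h 1 (by decide +kernel)))

theorem small_RuH : Small SporadicB.RuOrder.H := by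
  have := Ru.finH
  have : Fact (Nat.Prime 3) := ⟨Nat.prime_three⟩
  exact Small.of_noncomm (by rw [SporadicB.RuOrder.card_H]; decide) H859.Ccp.Ru.heis3.isPGroup
    (mem_sup_left (mem_zpowers _)) (mem_sup_right (mem_sup_left (mem_zpowers _))) H859.Ccp.Ru.heis3.noncomm

theorem good_Ru : Good Spor.Ru := by
  have := Ru.finite
  have h1 : out Spor.Ru = 1 := S2077.result
  exact ⟨by omega, .inr (.inr fun M _ => ⟨(k0_le_m3 Ru.deg).trans (by decide +kernel), by omega⟩),
    .inl (small_RuH.congr RuLat.Main.equiv.symm), .inl h1⟩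

end Cfsg.Agent.KZ.Spor
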