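import Cfsg.Agent.KZ.Spor.Gen
import Cfsg.Agent.H449.FixQuot
import Cfsg.Agent.H767.EssFrat
import Cfsg.Agent.Lib.FrattiniBasic
import Cfsg.Agent.Transfer.TausskyTwoGroup

/-!
# KZ: lower bounds for the abelianization of a Sylow `3`-subgroup (helper67)

`Big.of_surj`, `Big.of_hom`, `Big.of_comm`, `Big.of_T` (a `3'`-element which is central modulo a normal `3`-subgroup),
`Big.of_C`, `Big.of_CZ` (an elementary abelian section of order at least `81` and of index at most `3`).
-/

set_option autoImplicit false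

namespace Cfsg.Agent.KZ.Spor

open Cfsg Subgroup

universe u v

theorem comm_index_dvd {X : Type u} {Y : Type v} [Group X] [Group Y] (f : X →* Y) (hf : Function.Surjective f) :
    (commutator Y).index ∣ (commutator X).index := by
  rw [← index_comap_of_surjective _ hf]
  apply index_dvd_of_le
  rw [← map_le_iff_le_comap, commutator_def, commutator_def, map_commutator]
  exact commutator_mono le_top le_top

theorem comm_index_pos (X : Type u) [Group X] [Finite X] : 0 < (commutator X).index :=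
  Nat.pos_of_ne_zero index_ne_zero_of_finite

/-- from a quotient -/
theorem Big.of_surj {G : Type u} {K : Type v} [Group G] [Group K] [Finite G] (f : G →* K) (hf : Function.Surjective f)
    (h : Big K) : Big G := fun P => by
  have : Fact (Nat.Prime 3) := ⟨Nat.prime_three⟩
  exact (h (P.mapSurjective hf)).trans (Nat.le_of_dvd (comm_index_pos _)
    (comm_index_dvd (f.subgroupMap P) (f.subgroupMap_surjective P)))

theorem Small.to_surj {G : Type u} {K : Type v} [Group G] [Group K] [Finite G] (f : G →* K) (hf : Function.Surjective f)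
    (h : Small G) : Small K := by
  have : Fact (Nat.Prime 3) := ⟨Nat.prime_three⟩
  have : Finite K := Finite.of_surjective f hf
  obtain ⟨P⟩ : Nonempty (Sylow 3 G) := inferInstance
  exact Small.of_one (P.mapSurjective hf) ((Nat.le_of_dvd (comm_index_pos _)
    (comm_index_dvd (f.subgroupMap P) (f.subgroupMap_surjective P))).trans (h P))

theorem card_range_le {X : Type u} {B : Type v} [Group X] [Finite X] [Group B] (φ : X →* B)
    (hφ : ∀ a b, φ a * φ b = φ b * φ a) : Nat.card φ.range ≤ (commutator X).index := by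
  rw [← index_ker]
  refine Nat.le_of_dvd (comm_index_pos _) (index_dvd_of_le ?_)
  rw [commutator_def, commutator_le]
  intro a _ b _
  rw [MonoidHom.mem_ker, map_commutatorElement, commutatorElement_eq_one_iff_mul_comm, hφ]

/-- an abelian image of a Sylow subgroup -/
theorem Big.of_hom {S : Type u} {B : Type v} [Group S] [Finite S] [Group B] (P : Sylow 3 S) (φ : (P : Subgroup S) →* B)
    (hφ : ∀ a b, φ a * φ b = φ b * φ a) (h : 27 ≤ Nat.card φ.range) : Big S :=
  Big.of_one P (h.trans (card_range_le φ hφ))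

/-- an abelian Sylow subgroup -/
theorem Big.of_comm {S : Type u} [Group S] [Finite S] (P : Sylow 3 S)
    (hP : ∀ a ∈ (P : Subgroup S), ∀ b ∈ (P : Subgroup S), a * b = b * a) (h : 27 ∣ Nat.card S) : Big S := by
  have : Fact (Nat.Prime 3) := ⟨Nat.prime_three⟩
  refine Big.of_hom P (P : Subgroup S).subtype (fun a b => hP a a.2 b b.2) ?_
  rw [range_subtype]
  refine Nat.le_of_dvd Nat.card_pos ?_
  rw [← (P : Subgroup S).card_mul_index] at h
  exact (Nat.Coprime.pow_left 3 ((Nat.Prime.coprime_iff_not_dvd Nat.prime_three).2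
    P.not_dvd_index)).dvd_of_dvd_mul_right h

/-- a `3`-group -/
theorem Big.of_pgroup {X : Type u} [Group X] [Finite X] (hX : IsPGroup 3 X) (h : 27 ≤ (commutator X).index) :
    Big X := by
  have : Fact (Nat.Prime 3) := ⟨Nat.prime_three⟩
  refine Big.of_one ((hX.to_subgroup ⊤).toSylow (by rw [index_top]; decide)) ?_
  exact h.trans (comm_index_congr (topEquiv (G := X))).ge

theorem Small.of_pgroup {X : Type u} [Group X] [Finite X] (hX : IsPGroup 3 X) (h : (commutator X).index ≤ 9) :
    Small X := by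
  have : Fact (Nat.Prime 3) := ⟨Nat.prime_three⟩
  refine Small.of_one ((hX.to_subgroup ⊤).toSylow (by rw [index_top]; decide)) ?_
  exact (comm_index_congr (topEquiv (G := X))).le.trans h

theorem nine_le {X : Type u} [Group X] [Finite X] (hX : IsPGroup 3 X) (h9 : 9 ∣ Nat.card X) :
    9 ≤ (commutator X).index := by
  have : Fact (Nat.Prime 3) := ⟨Nat.prime_three⟩
  obtain ⟨j, hj⟩ := hX.index (commutator X)
  by_contra hc
  have h1 : j ≤ 1 := by
    by_contra h1
    exact hc (hj ▸ Nat.pow_le_pow_right (show 0 < 3 by norm_num) (show 2 ≤ j by omega))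
  have h2 : Nat.card (X ⧸ commutator X) ∣ 3 := by
    rw [← index_eq_card, hj]
    exact (pow_dvd_pow 3 h1).trans (pow_one 3).dvd
  have := hX.isNilpotent
  have h3 := Transfer.TausskyTwoGroup.commutator_eq_bot_of_isCyclic_quotient (X := X) (isCyclic_of_card_dvd_prime h2)
  rw [h3, index_bot] at hc
  exact hc (Nat.le_of_dvd Nat.card_pos h9)

/-- a preimage of order prime to `3` -/
theorem exists_regular {H : Type u} {K : Type v} [Group H] [Finite H] [Group K] (f : H →* K) (t : H)
    (ho : ¬ 3 ∣ orderOf (f t)) : ∃ s : H, f s = f t ∧ ¬ 3 ∣ orderOf s := by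
  obtain ⟨a, m, hm, h⟩ := Nat.exists_eq_pow_mul_and_not_dvd (orderOf_pos t).ne' 3 (by norm_num)
  have hc : Nat.Coprime (3 ^ a) m := Nat.Coprime.pow_left a ((Nat.Prime.coprime_iff_not_dvd Nat.prime_three).2 hm)
  obtain ⟨k, h1, h2⟩ := Nat.chineseRemainder hc 0 1
  have h3 : orderOf (f t) ∣ m :=
    (Nat.Coprime.pow_right a ((Nat.Prime.coprime_iff_not_dvd Nat.prime_three).2 ho).symm).dvd_of_dvd_mul_left
      (h ▸ orderOf_map_dvd f t)
  refine ⟨t ^ k, ?_, fun h4 => hm (h4.trans ?_)⟩
  · rw [map_pow]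
    conv_rhs => rw [← pow_one (f t)]
    exact pow_eq_pow_iff_modEq.2 (h2.of_dvd h3)
  · rw [orderOf_dvd_iff_pow_eq_one, ← pow_mul, ← orderOf_dvd_iff_pow_eq_one, h]
    exact mul_dvd_mul (Nat.modEq_zero_iff_dvd.1 h1) dvd_rfl

/-- **LEMMA T.** -/
theorem Big.of_T {H : Type u} {K : Type v} [Group H] [Finite H] [Group K] (f : H →* K) (hQ : IsPGroup 3 f.ker) (t : H)
    (ht : ∀ h, f t * f h = f h * f t) (ho : ¬ 3 ∣ orderOf (f t)) (h9 : 9 ∣ Nat.card f.range)
    (hc : ∀ s, f s = f t → s ∉ centralizer (f.ker : Set H)) : Big H := fun P => by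
  have : Fact (Nat.Prime 3) := ⟨Nat.prime_three⟩
  have hQP : f.ker ≤ P := hQ.le_sylow_of_normal P
  obtain ⟨s, hs, hso⟩ := exists_regular f t ho
  have h1 : ∀ x : H, x⁻¹ * (s * x * s⁻¹) ∈ f.ker := fun x => by
    rw [MonoidHom.mem_ker, map_mul, map_mul, map_mul, map_inv, map_inv, hs, ht]
    group
  have h2 : s ∈ normalizer ((P : Subgroup H) : Set H) := by
    refine mem_normalizer_fintype fun x hx => ?_
    have := (P : Subgroup H).mul_mem hx (hQP (h1 x))
    rwa [mul_inv_cancel_left] at this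
  let φ : (P : Subgroup H) →* K := f.comp (P : Subgroup H).subtype
  let W : Subgroup (P : Subgroup H) := (commutator φ.range).comap φ.rangeRestrict
  have h3 : commutator (P : Subgroup H) ≤ W := by
    rw [← map_le_iff_le_comap, commutator_def, commutator_def, map_commutator]
    exact commutator_mono le_top le_top
  have h4 : 9 ≤ W.index := by
    rw [index_comap_of_surjective _ φ.rangeRestrict_surjective]
    have : Finite φ.range := Finite.of_surjective _ φ.rangeRestrict_surjective
    refine nine_le (P.2.of_surjective _ φ.rangeRestrict_surjective) ?_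
    rw [← index_ker] at h9 ⊢
    rw [← relIndex_mul_index hQP] at h9
    exact (Nat.Coprime.pow_left 2 ((Nat.Prime.coprime_iff_not_dvd Nat.prime_three).2
      P.not_dvd_index)).dvd_of_dvd_mul_right h9
  have h5 : ¬ W ≤ commutator (P : Subgroup H) := fun h5 => by
    have h6 := H767.EssFrat.eq_one_of_mod_frattini P.2 ((P : Subgroup H).normalizerMonoidHom ⟨s, h2⟩)
      (((Nat.Prime.coprime_iff_not_dvd Nat.prime_three).2 fun h6 => hso (h6.trans
        ((orderOf_map_dvd _ _).trans (orderOf_coe _).symm.dvd))).symm) fun x => by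
      refine Lib.FrattiniBasic.commutator_le_frattini P.2 (h5 ?_)
      have h7 : φ.rangeRestrict (x⁻¹ * (P : Subgroup H).normalizerMonoidHom ⟨s, h2⟩ x) = 1 := Subtype.ext (h1 x)
      rw [mem_comap, h7]
      exact one_mem _
    refine hc s hs (mem_centralizer_iff.2 fun q hq => ?_)
    have h7 : s * q * s⁻¹ = q := congrArg (fun α : MulAut (P : Subgroup H) => (α ⟨q, hQP hq⟩ : H)) h6
    rw [mul_inv_eq_iff_eq_mul] at h7
    exact h7.symm
  have h6 := relIndex_mul_index h3
  obtain ⟨j, hj⟩ := (P.2.to_subgroup W).index ((commutator (P : Subgroup H)).subgroupOf W)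
  change (commutator (P : Subgroup H)).relIndex W = _ at hj
  have h7 : j ≠ 0 := by
    rintro rfl
    exact h5 (relIndex_eq_one.1 hj)
  have h8 : 3 ≤ (commutator (P : Subgroup H)).relIndex W := hj ▸ Nat.le_self_pow h7 3
  exact (Nat.mul_le_mul h8 h4).trans h6.le

/-- **LEMMA T** for a self-centralizing normal `3`-subgroup -/
theorem Big.of_T' {H : Type u} {K : Type v} [Group H] [Finite H] [Group K] (f : H →* K) (hQ : IsPGroup 3 f.ker)
    (hC : centralizer (f.ker : Set H) ≤ f.ker) (t : H) (ht : ∀ h, f t * f h = f h * f t) (h1 : f t ≠ 1)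
    (ho : ¬ 3 ∣ orderOf (f t)) (h9 : 9 ∣ Nat.card f.range) : Big H :=
  Big.of_T f hQ t ht ho h9 fun _ hs h => h1 (hs.symm.trans (hC h))

theorem comm_le_of_gen {X : Type u} [Group X] (R : Subgroup X) [R.Normal] {s : Set X} (hs : closure s = ⊤)
    (h : ∀ a ∈ s, ∀ b ∈ s, a * b * a⁻¹ * b⁻¹ ∈ R) : commutator X ≤ R := by
  have key : ∀ a : X, (∀ b ∈ s, Commute (QuotientGroup.mk' R a) (QuotientGroup.mk' R b)) →
      ∀ b, Commute (QuotientGroup.mk' R a) (QuotientGroup.mk' R b) := fun a ha b => by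
    have hb : b ∈ closure s := hs ▸ mem_top b
    induction hb using closure_induction with
    | mem x hx => exact ha x hx
    | one => rw [map_one]; exact Commute.one_right _
    | mul x y _ _ hx hy => rw [map_mul]; exact hx.mul_right hy
    | inv x _ hx => rw [map_inv]; exact hx.inv_right
  have h1 : ∀ a ∈ s, ∀ b, Commute (QuotientGroup.mk' R a) (QuotientGroup.mk' R b) := fun a ha =>
    key a fun b hb => by
      rw [← commutatorElement_eq_one_iff_commute, ← map_commutatorElement]
      exact (QuotientGroup.eq_one_iff _).2 (h a ha b hb)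
  rw [commutator_def, commutator_le]
  intro a _ b _
  rw [← QuotientGroup.eq_one_iff]
  change QuotientGroup.mk' R _ = 1
  rw [map_commutatorElement, commutatorElement_eq_one_iff_commute]
  exact key a (fun c hc => (h1 c hc a).symm) b

theorem comm_index_C {X : Type u} [Group X] [Finite X] (V : Subgroup X) [hV : V.Normal]
    (hc : ∀ a ∈ V, ∀ b ∈ V, a * b = b * a) (h3 : ∀ a ∈ V, a ^ 3 = 1) (h81 : 81 ≤ Nat.card V) (hi : V.index ∣ 3) :
    27 ≤ (commutator X).index := by
  have : Fact (Nat.Prime 3) := ⟨Nat.prime_three⟩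
  rcases (Nat.dvd_prime Nat.prime_three).1 hi with hi | hi
  · rw [index_eq_one] at hi
    subst hi
    have := card_range_le (MonoidHom.id X) fun a b => hc a (mem_top a) b (mem_top b)
    rw [MonoidHom.range_eq_top.2 Function.surjective_id] at this
    omega
  have h1 : IsCyclic (X ⧸ V) := isCyclic_of_prime_card (p := 3) hi
  obtain ⟨y, hy⟩ := h1.exists_generator
  obtain ⟨x, rfl⟩ := QuotientGroup.mk_surjective y
  have h2 : closure (insert x (V : Set X)) = ⊤ := by
    rw [eq_top_iff]
    intro g _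
    obtain ⟨k, hk⟩ := hy (g : X ⧸ V)
    have h4 : (x ^ k)⁻¹ * g ∈ V := QuotientGroup.eq.1 hk
    have h5 := mul_mem (zpow_mem (subset_closure (Set.mem_insert x (V : Set X))) k)
      (subset_closure (Set.mem_insert_of_mem x h4))
    rwa [mul_inv_cancel_left] at h5
  have hx3 : x ^ 3 ∈ V := hi ▸ V.pow_index_mem x
  let _ : CommGroup V := { (inferInstance : Group V) with mul_comm := fun a b => Subtype.ext (hc a a.2 b b.2) }
  let α : V →* V := (MulAut.conjNormal x : MulAut V)
  let D : V →* V := α / MonoidHom.id V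
  have hD : ∀ v : V, (D v : X) = x * v * x⁻¹ * (v : X)⁻¹ := fun v => by
    change ((α v / v : V) : X) = _
    rw [div_eq_mul_inv]
    rfl
  have h4 : Nat.card V ≤ Nat.card D.ker ^ 3 := by
    have h5 := H449.card_le_card_fixed_pow (A := Additive V) (p := 3)
      (fun v => congrArg Additive.ofMul (Subtype.ext (h3 _ v.toMul.2) : v.toMul ^ 3 = 1))
      (MonoidHom.toAdditive α) (by
        refine AddMonoidHom.ext fun v => congrArg Additive.ofMul (Subtype.ext ?_ : α (α (α v.toMul)) = v.toMul)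
        change x * (x * (x * v.toMul * x⁻¹) * x⁻¹) * x⁻¹ = v.toMul
        calc _ = x ^ 3 * v.toMul * (x ^ 3)⁻¹ := by simp only [pow_succ, pow_zero, one_mul]; group
          _ = _ := by rw [hc _ hx3 _ v.toMul.2, mul_inv_cancel_right])
    refine h5.trans (Nat.pow_le_pow_left (Nat.card_le_card_of_injective
      (fun v => ⟨v.1.toMul, div_eq_one.2 (congrArg Additive.toMul v.2)⟩) fun a b hab => ?_) 3)
    exact Subtype.ext (congrArg Subtype.val hab :)
  have h5 : 9 ≤ Nat.card D.ker := by
    have h6 : IsPGroup 3 V := fun v => ⟨1, Subtype.ext (by simpa using h3 _ v.2)⟩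
    obtain ⟨j, hj⟩ := (h6.to_subgroup D.ker).exists_card_eq
    rw [hj] at h4 ⊢
    rcases j with _ | _ | j
    · omega
    · omega
    · exact Nat.pow_le_pow_right (show 0 < 3 by norm_num) (show 2 ≤ j + 1 + 1 by omega)
  let R : Subgroup X := D.range.map V.subtype
  have hR : ∀ v ∈ V, x * v * x⁻¹ * v⁻¹ ∈ R := fun v hv => ⟨_, ⟨⟨v, hv⟩, rfl⟩, hD _⟩
  have hRV : R ≤ V := map_subtype_le _
  have hRn : R.Normal := by
    rw [← normalizer_eq_top_iff, eq_top_iff, ← h2, closure_le]
    intro g hg
    refine mem_normalizer_fintype ?_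
    rcases hg with rfl | hg
    · rintro _ ⟨_, ⟨v, rfl⟩, rfl⟩
      have h6 := hR _ (hV.conj_mem _ v.2 g)
      rw [coe_subtype, hD, show g * (g * v * g⁻¹ * (v : X)⁻¹) * g⁻¹ = g * (g * v * g⁻¹) * g⁻¹ * (g * v * g⁻¹)⁻¹ by group]
      exact h6
    · intro r hr
      rwa [hc g hg r (hRV hr), mul_inv_cancel_right]
  have h6 : commutator X ≤ R := comm_le_of_gen R h2 fun a ha b hb => by
    rcases ha with rfl | ha <;> rcases hb with rfl | hb
    · simp
    · exact hR b hb
    · rw [show a * b * a⁻¹ * b⁻¹ = (b * a * b⁻¹ * a⁻¹)⁻¹ by group]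
      exact inv_mem (hR a ha)
    · rw [hc a ha b hb]
      simp
  refine le_trans ?_ (Nat.le_of_dvd (comm_index_pos X) (index_dvd_of_le h6))
  rw [← relIndex_mul_index hRV, hi, relIndex, subgroupOf, comap_map_eq_self_of_injective V.subtype_injective]
  have h7 := D.range.card_mul_index
  have h8 := D.ker.card_mul_index
  rw [index_ker, ← h7, mul_comm] at h8
  have h9 := Nat.eq_of_mul_eq_mul_left Nat.card_pos h8
  omega

/-- **LEMMA C.** -/
theorem Big.of_C {H : Type u} [Group H] [Finite H] (V : Subgroup H) [V.Normal] (hc : ∀ a ∈ V, ∀ b ∈ V, a * b = b * a)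
    (h3 : ∀ a ∈ V, a ^ 3 = 1) (h81 : 81 ≤ Nat.card V) (hi : ¬ 9 ∣ V.index) : Big H := fun P => by
  have : Fact (Nat.Prime 3) := ⟨Nat.prime_three⟩
  have h1 : IsPGroup 3 V := fun v => ⟨1, Subtype.ext (by simpa using h3 _ v.2)⟩
  have h2 : V ≤ P := h1.le_sylow_of_normal P
  refine comm_index_C (V.subgroupOf P) (fun a ha b hb => Subtype.ext (hc _ ha _ hb))
    (fun a ha => Subtype.ext (h3 _ ha)) (h81.trans (Nat.card_congr (subgroupOfEquivOfLe h2).toEquiv).ge) ?_
  obtain ⟨j, hj⟩ := P.2.index (V.subgroupOf P)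
  have h4 : j ≤ 1 := by
    by_contra h4
    refine hi (((pow_dvd_pow 3 (show 2 ≤ j by omega)).trans hj.symm.dvd).trans ?_)
    exact relIndex_dvd_index_of_normal V P
  rw [hj]
  exact (pow_dvd_pow 3 h4).trans (pow_one 3).dvd

/-- **LEMMA C** for a section `Q / Z` -/
theorem Big.of_CZ {H : Type u} [Group H] [Finite H] (Z Q : Subgroup H) [Z.Normal] [Q.Normal] (hZ : Z ≤ Q)
    (hc : ∀ a ∈ Q, ∀ b ∈ Q, a * b * a⁻¹ * b⁻¹ ∈ Z) (h3 : ∀ a ∈ Q, a ^ 3 ∈ Z) (h81 : 81 * Nat.card Z ≤ Nat.card Q)
    (hi : ¬ 9 ∣ Q.index) : Big H := by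
  have hs := QuotientGroup.mk'_surjective Z
  have : (Q.map (QuotientGroup.mk' Z)).Normal := Normal.map inferInstance _ hs
  have h1 : (Q.map (QuotientGroup.mk' Z)).index = Q.index := by
    rw [index_map_eq _ hs (by rwa [QuotientGroup.ker_mk'])]
  refine Big.of_surj _ hs (Big.of_C (Q.map (QuotientGroup.mk' Z)) ?_ ?_ ?_ (h1 ▸ hi))
  · rintro _ ⟨a, ha, rfl⟩ _ ⟨b, hb, rfl⟩
    rw [← commutatorElement_eq_one_iff_mul_comm, ← map_commutatorElement]
    exact (QuotientGroup.eq_one_iff _).2 (hc a ha b hb)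
  · rintro _ ⟨a, ha, rfl⟩
    rw [← map_pow]
    exact (QuotientGroup.eq_one_iff _).2 (h3 a ha)
  · have h2 := (Q.map (QuotientGroup.mk' Z)).card_mul_index
    have h4 := Q.card_mul_index
    have h5 := Z.card_mul_index
    rw [h1, ← index_eq_card] at h2
    rw [← h2, ← h4, ← mul_assoc] at h5
    have h6 := Nat.eq_of_mul_eq_mul_right (Nat.pos_of_ne_zero index_ne_zero_of_finite) h5
    rw [← h6, mul_comm] at h81
    exact Nat.le_of_mul_le_mul_left h81 Nat.card_pos

end Cfsg.Agent.KZ.Spor
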