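import Cfsg.Agent.KZ.Spor.Syl
import Cfsg.Agent.TAB.Sm2.Van

/-!
# KZ: membership tests in a table (helper67)

`one_of_tab` : a rational member of a degree which occurs once; `exists_cent` : a type which centralizes a Sylow subgroup;
`col_of_tab` : the values on a class from the sums over the orbits; `Small.of_noncomm`.
-/

set_option autoImplicit false

namespace Cfsg.Agent.KZ.Spor

open Cfsg Subgroup Cfsg.Agent.KZ.Tool Cfsg.Agent.TAB.Use Cfsg.Agent.TAB.Eng Cfsg.Agent.Blocks.Local

universe u v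

variable {G : Type u} [Group G] [Finite G] {D : Dat} {T : TD G D} {R : Rows} {χ : ℕ → G → ℂ} {M : Ideal AlgInt}

/-- the rational row `j` passes the membership test -/
def memB (D : Dat) (R : Rows) (j : ℕ) : Bool :=
  R.d j % 3 != 0 && R.rel.any fun r => r.1 == [(j, 1)] &&
    (List.range D.n).all fun t => D.ord t % 3 == 0 || (r.2.getD t 0 - R.d j) % 3 == 0 || lenB R 1 t

theorem mem_of_tab (hM : IsPModular 3 M) (hE : Enum G R.n R.d χ) (hR : Rel T R χ) {j : ℕ} (hj : j < R.n)
    (hc : memB D R j = true) : Mem M ⟨χ j, hE.irr j hj⟩ := by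
  have : Fact (Nat.Prime 3) := ⟨Nat.prime_three⟩
  obtain ⟨P⟩ : Nonempty (Sylow 3 G) := inferInstance
  simp only [memB, Bool.and_eq_true, bne_iff_ne, List.any_eq_true, beq_iff_eq, List.all_eq_true, List.mem_range,
    Bool.or_eq_true] at hc
  obtain ⟨h1, r, hr, h2, h3⟩ := hc
  refine (mem_iff hM P _).2 ⟨fun h4 => h1 ?_, fun x hx ho => ?_⟩
  · rw [hE.charDegree_eq hj] at h4
    exact Nat.mod_eq_zero_of_dvd h4
  · rcases h3 _ (T.lt x) with (h4 | h4) | h4
    · exact absurd (T.ord x ▸ Nat.dvd_of_mod_eq_zero h4) ho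
    · change MemLocalIdeal M (χ j x - χ j 1)
      rw [hR.row hr h2 x, hE.deg j hj]
      have h5 := (memLocalIdeal_intCast_iff hM _).2 (Int.dvd_of_emod_eq_zero h4)
      rwa [Int.cast_sub, Int.cast_natCast] at h5
    · exact absurd (dvd_index_of_tab ⟨χ, hE, hR⟩ h4)
        (H700.PrinCrit.not_dvd_index_of_mem_centralizer P.not_dvd_index hx)

/-- **`One` from a table** -/
theorem one_of_tab (h : Tab T R) (j : ℕ)
    (hc : j < R.n ∧ R.d j ≠ 1 ∧ R.deg.count (R.d j) = 1 ∧ memB D R j = true) (M : Ideal AlgInt) (hM : IsPModular 3 M) :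
    One M G := by
  obtain ⟨χ, hE, hR⟩ := h
  obtain ⟨h1, h2, h3, h4⟩ := hc
  refine ⟨_, mem_of_tab hM hE hR h1 h4, fun h5 => h2 ?_, fixes_of_uniq hE h1 (uniq_of_count h1 h3)⟩
  have h6 : χ j 1 = 1 := congrFun h5 1
  rw [hE.deg j h1] at h6
  exact_mod_cast h6

/-- `One` from the degrees -/
theorem one_of_deg {L : List ℕ} (hC : CP G) (hL : DegList G L) (h : 2 ≤ u3 L) (M : Ideal AlgInt) (hM : IsPModular 3 M) :
    One M G := one_of_fx (h.trans (u3_le_fx hM hC hL))

omit [Finite G] in
/-- a type whose number of elements is prime to `3` meets the centralizer of a Sylow subgroup -/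
theorem exists_cent (hm : T.Mass) (P : Sylow 3 G) {t : ℕ} (ht : t < D.n) (h : ¬ 3 ∣ D.cnt t) :
    ∃ x ∈ centralizer ((P : Subgroup G) : Set G), T.ty x = t := by
  have : Fact (Nat.Prime 3) := ⟨Nat.prime_three⟩
  let A : MulAction (P : Subgroup G) {g : G // T.ty g = t} :=
    { smul := fun p g => ⟨p * g * (p : G)⁻¹, (T.conj _ _).trans g.2⟩
      one_smul := fun g => Subtype.ext (by change (1 : G) * g * (1 : G)⁻¹ = g; group)
      mul_smul := fun p q g => Subtype.ext (by
        change (p : G) * q * g * ((p : G) * q)⁻¹ = p * (q * g * (q : G)⁻¹) * (p : G)⁻¹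
        group) }
  obtain ⟨x, hx⟩ := P.2.nonempty_fixed_point_of_prime_not_dvd_card {g : G // T.ty g = t} (by rwa [hm.2 t ht])
  refine ⟨x, mem_centralizer_iff.2 fun p hp => ?_, x.2⟩
  have h1 : p * x * p⁻¹ = x := congrArg Subtype.val (hx ⟨p, hp⟩)
  exact mul_inv_eq_iff_eq_mul.1 h1

/-- the value of the characters of an orbit -/
def colV (t : ℕ) (r : List (ℕ × ℤ) × List ℤ) : ℤ := r.2.getD t 0 / r.1.length

/-- the relations are the sums over a partition, and the column `t` has the norm `c` -/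
def colB (R : Rows) (t c : ℕ) : Bool :=
  (R.rel.flatMap Prod.fst == (List.range R.n).map fun j => (j, 1)) &&
    (R.rel.all fun r => r.2.getD t 0 == r.1.length * colV t r) &&
    (R.rel.map fun r => r.1.length * (colV t r * colV t r)).sum == (c : ℤ)

theorem sum_nonneg_eq {α : Type*} (f : α → ℝ) (hf : ∀ a, 0 ≤ f a) : ∀ l : List α, (l.map f).sum = 0 → ∀ a ∈ l, f a = 0
  | [], _, _, ha => absurd ha List.not_mem_nil
  | b :: l, h, a, ha => by
    rw [List.map_cons, List.sum_cons] at h
    have h1 := hf b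
    have h2 : 0 ≤ (l.map f).sum := List.sum_nonneg fun x hx => by
      obtain ⟨y, -, rfl⟩ := List.mem_map.1 hx
      exact hf y
    rcases List.mem_cons.1 ha with rfl | ha
    · linarith
    · exact sum_nonneg_eq f hf l (by linarith) a ha

theorem sum_flat {α β : Type*} (g : β → ℝ) (f : α → List β) :
    ∀ l : List α, (l.map fun a => ((f a).map g).sum).sum = ((l.flatMap f).map g).sum
  | [] => rfl
  | a :: l => by rw [List.map_cons, List.sum_cons, sum_flat g f l, List.flatMap_cons, List.map_append, List.sum_append]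

theorem sum_range_list (f : ℕ → ℝ) (n : ℕ) : ((List.range n).map f).sum = ∑ i ∈ Finset.range n, f i := by
  induction n with
  | zero => rfl
  | succ n ih => rw [List.range_succ, List.map_append, List.sum_append, ih, Finset.sum_range_succ]; simp

theorem sum_sub_list {α : Type*} (f g : α → ℝ) :
    ∀ l : List α, (l.map fun a => f a - g a).sum = (l.map f).sum - (l.map g).sum
  | [] => by simp
  | a :: l => by
    simp only [List.map_cons, List.sum_cons, sum_sub_list f g l]
    ring

theorem sum_normSq_sub (z : ℕ → ℂ) (v : ℝ) : ∀ l : List (ℕ × ℤ), (∀ p ∈ l, p.2 = 1) →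
    (l.map fun p => Complex.normSq (z p.1 - v)).sum = (l.map fun p => Complex.normSq (z p.1)).sum -
      2 * v * ((l.map fun p => (p.2 : ℂ) * z p.1).sum).re + l.length * (v * v)
  | [], _ => by simp
  | p :: l, h => by
    simp only [List.map_cons, List.sum_cons, List.length_cons]
    rw [sum_normSq_sub z v l fun q hq => h q (List.mem_cons_of_mem _ hq), h p List.mem_cons_self]
    simp [Complex.normSq_apply]
    ring

/-- **the values on a class** -/
theorem col_of_tab (hE : Enum G R.n R.d χ) (hR : Rel T R χ) {x : G} {c : ℕ}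
    (hx : Nat.card (centralizer ({x} : Set G)) = c) (hc : colB R (T.ty x) c = true) :
    ∀ j < R.n, ∃ r ∈ R.rel, (j, 1) ∈ r.1 ∧ χ j x = colV (T.ty x) r := by
  simp only [colB, Bool.and_eq_true, beq_iff_eq, List.all_eq_true] at hc
  obtain ⟨⟨h1, h2⟩, h3⟩ := hc
  have h4 : ∀ r ∈ R.rel, ∀ p ∈ r.1, p.2 = 1 := fun r hr p hp => by
    have h5 : p ∈ R.rel.flatMap Prod.fst := List.mem_flatMap.2 ⟨r, hr, hp⟩
    rw [h1] at h5
    obtain ⟨j, -, rfl⟩ := List.mem_map.1 h5
    rfl
  have h5 : (R.rel.map fun r => (r.1.map fun p => Complex.normSq (χ p.1 x)).sum).sum = c := by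
    rw [sum_flat (fun p : ℕ × ℤ => Complex.normSq (χ p.1 x)), h1, List.map_map, sum_range_list, ← hx]
    exact TAB.Sm2.sum_enum hE x
  have h6 : (R.rel.map fun r => (r.1.map fun p => Complex.normSq (χ p.1 x - (colV (T.ty x) r : ℝ))).sum).sum = 0 := by
    have h7 : (R.rel.map fun r => (r.1.map fun p => Complex.normSq (χ p.1 x - (colV (T.ty x) r : ℝ))).sum) =
        R.rel.map fun r => (r.1.map fun p => Complex.normSq (χ p.1 x)).sum -
          ((r.1.length * (colV (T.ty x) r * colV (T.ty x) r) : ℤ) : ℝ) := List.map_congr_left fun r hr => by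
      rw [sum_normSq_sub (fun j => χ j x) _ _ (h4 r hr), hR r hr x, h2 r hr]
      simp
      ring
    have h8 : ((R.rel.map fun r => (r.1.length * (colV (T.ty x) r * colV (T.ty x) r) : ℤ)).sum : ℝ) = c := by
      rw [h3, Int.cast_natCast]
    rw [Int.cast_list_sum, List.map_map] at h8
    rw [h7, sum_sub_list, h5]
    exact sub_eq_zero.2 h8.symm
  intro j hj
  have h7 : (j, (1 : ℤ)) ∈ R.rel.flatMap Prod.fst := h1 ▸ List.mem_map.2 ⟨j, List.mem_range.2 hj, rfl⟩
  obtain ⟨r, hr, hp⟩ := List.mem_flatMap.1 h7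
  have h8 := sum_nonneg_eq _ (fun r : List (ℕ × ℤ) × List ℤ => List.sum_nonneg fun y hy => by
    obtain ⟨p, -, rfl⟩ := List.mem_map.1 hy
    exact Complex.normSq_nonneg _) _ h6 r hr
  have h9 := sum_nonneg_eq _ (fun p : ℕ × ℤ => Complex.normSq_nonneg _) _ h8 _ hp
  refine ⟨r, hr, hp, ?_⟩
  rw [Complex.normSq_eq_zero, sub_eq_zero] at h9
  simpa using h9

/-- the test of the congruence on the column `t` -/
def conB (R : Rows) (t j : ℕ) : Bool :=
  R.d j % 3 != 0 && R.rel.any fun r => decide ((j, 1) ∈ r.1) && (colV t r - R.d j) % 3 == 0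

/-- **an upper bound from a class which centralizes a Sylow subgroup** -/
theorem k0_le_col (hM : IsPModular 3 M) (h : Tab T R) (P : Sylow 3 G) {x : G}
    (hP : x ∈ centralizer ((P : Subgroup G) : Set G)) {t c : ℕ} (ht : T.ty x = t)
    (hx : Nat.card (centralizer ({x} : Set G)) = c) (hc : colB R t c = true) :
    k0 M G ≤ Nat.count (fun j => conB R t j = true) R.n := by
  have : Fact (Nat.Prime 3) := ⟨Nat.prime_three⟩
  subst ht
  obtain ⟨χ, hE, hR⟩ := h
  refine le_count hE (Mem M) _ fun j hj h1 => ?_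
  obtain ⟨r, hr, h2, h3⟩ := col_of_tab hE hR hx hc j hj
  have h4 : MemLocalIdeal M (χ j x - χ j 1) := congr_of_mem hM P h1.1 hP
  rw [h3, hE.deg j hj, ← Int.cast_natCast, ← Int.cast_sub, memLocalIdeal_intCast_iff hM] at h4
  have h5 := h1.2
  rw [hE.charDegree_eq hj] at h5
  simp only [conB, Bool.and_eq_true, bne_iff_ne, List.any_eq_true, beq_iff_eq, decide_eq_true_eq]
  exact ⟨fun h6 => h5 (Nat.dvd_of_mod_eq_zero h6), r, hr, h2, Int.emod_eq_zero_of_dvd h4⟩

/-- a nonabelian Sylow subgroup of order `27` -/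
theorem Small.of_noncomm (h : ¬ 81 ∣ Nat.card G) {Q : Subgroup G} (hQ : IsPGroup 3 Q) {x y : G} (hx : x ∈ Q)
    (hy : y ∈ Q) (hxy : x * y ≠ y * x) : Small G := by
  have : Fact (Nat.Prime 3) := ⟨Nat.prime_three⟩
  obtain ⟨P, hP⟩ := hQ.exists_le_sylow
  refine Small.of_one P ?_
  obtain ⟨j, hj⟩ := P.2.exists_card_eq
  obtain ⟨i, hi⟩ := (P.2.to_subgroup (commutator (P : Subgroup G))).exists_card_eq
  have h1 : j ≤ 3 := by
    by_contra h1
    exact h (((pow_dvd_pow 3 (show 4 ≤ j by omega)).trans hj.symm.dvd).trans (card_subgroup_dvd_card _))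
  have h2 : i ≠ 0 := by
    rintro rfl
    have h2 := commutator_mem_commutator (mem_top (⟨x, hP hx⟩ : (P : Subgroup G)))
      (mem_top (⟨y, hP hy⟩ : (P : Subgroup G)))
    rw [← commutator_def] at h2
    rw [card_eq_one.1 hi, mem_bot, commutatorElement_eq_one_iff_mul_comm] at h2
    exact hxy (congrArg Subtype.val h2)
  have h3 := (commutator (P : Subgroup G)).card_mul_index
  have h4 : 3 ≤ 3 ^ i := Nat.le_self_pow h2 3
  have h5 : 3 ^ j ≤ 27 := Nat.pow_le_pow_right (show 0 < 3 by norm_num) h1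
  rw [hi, hj] at h3
  have h6 := Nat.mul_le_mul_right (commutator (P : Subgroup G)).index h4
  unfold nab
  omega

theorem Small.to_inj {H : Type v} [Group H] (f : H →* G) (hf : Function.Injective f) (hi : ¬ 3 ∣ f.range.index)
    (h : Small G) : Small H := fun Q => by
  obtain ⟨P⟩ : Nonempty (Sylow 3 G) := inferInstance
  rw [← nab_of_inj f hf hi Q P]
  exact h P

omit [Finite G] in
theorem not_dvd_range_index {H : Type v} [Group H] (f : H →* G) (hf : Function.Injective f) {e : ℕ}
    (h1 : 3 ^ e ∣ Nat.card H) (h2 : ¬ 3 ^ (e + 1) ∣ Nat.card G) : ¬ 3 ∣ f.range.index := fun h => h2 (by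
  rw [← f.range.card_mul_index, pow_succ, ← Nat.card_congr (f.ofInjective hf).toEquiv]
  exact mul_dvd_mul h1 h)

/-- `CP` from the elements of prime order -/
theorem cp_of_prime (h : ∀ y : G, (orderOf y).Prime → orderOf y ≠ 3 → 3 ∣ (centralizer ({y} : Set G)).index) : CP G := by
  have : Fact (Nat.Prime 3) := ⟨Nat.prime_three⟩
  intro P x hx h3
  by_contra h1
  obtain ⟨p, hp, hd⟩ := Nat.exists_prime_and_dvd (orderOf_eq_one_iff.not.2 h1)
  have h2 := orderOf_pow_orderOf_div (orderOf_pos x).ne' hd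
  refine H700.PrinCrit.not_dvd_index_of_mem_centralizer P.not_dvd_index (pow_mem hx (orderOf x / p))
    (h _ (h2.symm ▸ hp) ?_)
  rw [h2]
  rintro rfl
  exact h3 hd

end Cfsg.Agent.KZ.Spor
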